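import Cfsg.Agent.Omega.NO3S.EThree.FrameG

/-!
# The frame `Bg` without `HypN` (several natural blocks over a weakly closed `B`, any module `V = zl S P`)

`Bw S P B ZJ L W Z C q` is `Bg S P B ZJ L W Z C q` with `hyp : HypN S P` replaced by `HypW S P`:

* `HypW S P` : `Ctx G`, `S ≤ P`, conjugates of `zl S P` which normalise each other commute; `HypW.of_hypN`, `Bw.of_bg`.

Same names as for `Bg` (`FrameG.lean`).  For box R: `P = ⟨P*(S)⟩`.
-/

set_option autoImplicit false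
set_option linter.unusedSectionVars false

namespace Cfsg.Agent.Omega.NO3S.EThree.Frame

open Subgroup Cfsg Cfsg.Agent.ZN.ChoiceBase
open Cfsg.Agent.ZN (jj zj bau zc zl o2)
open Cfsg.Agent.ZN.ChoiceSit (Syl exists_syl syl_conj)
open Cfsg.Agent.Omega.OM Cfsg.Agent.Omega.OM.Uni
open Cfsg.Agent.Omega.OM.WeakCl (WC)
open Cfsg.Agent.Omega.NO3S (HypJ HypN Hyp)
open Cfsg.Agent.Omega.Frame (Ctx)
open scoped Pointwise

universe u

variable {G : Type u} [Group G]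

/-- what `Bg` needs of `HypN` -/
structure HypW [Finite G] (S : Sylow 2 G) (P : Subgroup G) : Prop where
  ctx : Ctx G
  SP : (S : Subgroup G) ≤ P
  noff : ∀ {a b : G},
    cj a (zl (S : Subgroup G) P) ≤ normalizer ((cj b (zl (S : Subgroup G) P) : Subgroup G) : Set G) →
    cj b (zl (S : Subgroup G) P) ≤ normalizer ((cj a (zl (S : Subgroup G) P) : Subgroup G) : Set G) →
    cj a (zl (S : Subgroup G) P) ≤ centralizer ((cj b (zl (S : Subgroup G) P) : Subgroup G) : Set G)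

theorem HypW.of_hypN [Finite G] {S : Sylow 2 G} {P : Subgroup G} (h : HypN S P) : HypW S P where
  ctx := h.ctx
  SP := h.star.isLoc.le
  noff := fun h1 h2 => NoFF.Lines.noff_lines h.geo.toSys (Set.mem_singleton P) (Set.mem_singleton P) h1 h2

/-- **The frame of NO-3S, several natural blocks, over `(B, ZJ)`.** -/
structure Bw [Finite G] (S : Sylow 2 G) (P B ZJ : Subgroup G) {ι : Type} (L W Z C : ι → Subgroup G) (q : ℕ) :
    Prop where
  hyp : HypW S P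
  fr : Fg B (o2 P) (zl (S : Subgroup G) P) ZJ L W Z C q
  /-- `B` is weakly closed -/
  wc : WC B
  eqB : B = (S : Subgroup G) ⊓ centralizer (ZJ : Set G)
  SZJ : (S : Subgroup G) ≤ normalizer (ZJ : Set G)
  two : ∀ i : ι, ∃ j, j ≠ i
  LP : ∀ i, L i ≤ P
  perm : ∀ p ∈ P, ∃ σ : Equiv.Perm ι, ∀ i, cj p (W i) = W (σ i) ∧ cj p (C i) = C (σ i)
  trans : ∀ i j, ∃ s ∈ (S : Subgroup G), cj s (W i) = W j
  tr : ∀ i, ∀ x ∈ W i, x ≠ 1 → ∃ l ∈ P, l ∈ centralizer (C i : Set G) ∧ ∃ z ∈ Z i, l * z * l⁻¹ = x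
  /-- the root group of the `i`-th block -/
  root : ∀ i, ∀ v ∈ W i, v ∉ Z i → ∀ z ∈ Z i, ∃ b ∈ B, b ∈ centralizer (C i : Set G) ∧ b * v * b⁻¹ * v⁻¹ = z
  /-- `N_G(B)` normalises `V_P`, permutes the `Z i` -/
  nrm : ∀ g ∈ normalizer (B : Set G), cj g (zl (S : Subgroup G) P) = zl (S : Subgroup G) P ∧
    ∀ i, ∃ j, cj g (Z i) = Z j ∧ cj g (W i) ≤ W j ⊔ ZJ
  scal : 2 < q → ∀ i, ScalG B P W Z C i

namespace Bw

section one

variable [Finite G] {S : Sylow 2 G} {P : Subgroup G} {ι : Type} {B ZJ : Subgroup G}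
  {L W Z C : ι → Subgroup G} {q : ℕ} (h : Bw S P B ZJ L W Z C q)
include h

theorem BS : B ≤ (S : Subgroup G) := h.eqB.le.trans inf_le_left

theorem bau_two : IsPGroup 2 B := S.isPGroup'.to_le h.BS

/-- `C_S(ZJ) ≤ B` -/
theorem mem_B {s : G} (hs : s ∈ (S : Subgroup G)) (hz : ∀ z ∈ ZJ, s * z = z * s) : s ∈ B := by
  rw [h.eqB]
  exact ⟨hs, mem_centralizer_iff.2 fun z hz' => (hz z hz').symm⟩

/-- `C_S(V_P) ≤ B` -/
theorem cent_le : (S : Subgroup G) ⊓ centralizer (zl (S : Subgroup G) P : Set G) ≤ B := by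
  rw [h.eqB]
  exact inf_le_inf_left _ (centralizer_le h.fr.ZJV)

theorem S_norm_B : (S : Subgroup G) ≤ normalizer (B : Set G) := by
  intro s hs
  rw [mem_normalizer_iff_cj]
  conv_lhs => rw [h.eqB]
  rw [cj_inf, cj_centralizer, cj_eq_of_mem_normalizer (h.SZJ hs),
    cj_eq_of_mem_normalizer (Subgroup.le_normalizer hs), ← h.eqB]

theorem norm_ZJ : normalizer (B : Set G) ≤ normalizer (ZJ : Set G) := by
  rw [← h.fr.zcB]
  exact normalizer_le_of_cj (F := zc) LemmaK.Main.zc_cj B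

/-- `B` is a Sylow 2-subgroup of `C_G(ZJ)`. -/
theorem syl_B : Syl B (centralizer (ZJ : Set G)) := WOneG.syl_B S h.eqB h.SZJ

/-- a 2-group over `B` normalises `B` -/
theorem le_norm_B {R : Subgroup G} (hR : IsPGroup 2 R) (hB : B ≤ R) : R ≤ normalizer (B : Set G) :=
  UniPlus.WC.weakNormal h.wc R hR hB


theorem block (i : ι) : LemmaK.Block 2 (B) (L i) (W i) :=
  (h.fr.blk i).toBlock (h.fr.cardZ i) h.bau_two (UniPlus.WC.weakNormal h.wc)

theorem Z_ne (i : ι) : Z i ≠ ⊥ := by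
  intro e
  have h1 := h.fr.cardZ i
  rw [e, card_bot] at h1
  exact absurd (h.fr.blk i).one (by omega)

theorem W_ne (i : ι) : W i ≠ ⊥ := fun e => h.Z_ne i (le_bot_iff.1 (e ▸ (h.fr.blk i).ZV))

theorem L_norm {i j : ι} (hij : j ≠ i) : L j ≤ normalizer (Z i : Set G) := by
  refine le_trans (fun l hl => mem_centralizer_iff.2 fun z hz => ?_) (centralizer_le_normalizer _)
  exact (h.fr.LC j l hl z (h.fr.Z_le i hz) (h.fr.WjC j i hij ((h.fr.blk i).ZV hz))).symm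

theorem Z_two (i : ι) : IsPGroup 2 (Z i) :=
  h.bau_two.to_le ((h.fr.blk i).ZV.trans (h.fr.blk i).VB)

theorem char_Z (i : ι) : normalizer (Z i : Set G) ⊓ centralizer (o2 (normalizer (Z i : Set G)) : Set G) ≤
    o2 (normalizer (Z i : Set G)) :=
  MinSimple.Basic.char2_normalizer h.hyp.ctx.char2 (h.Z_two i) (h.Z_ne i)

/-- LEMMA K -/
theorem lemK {i j : ι} (hij : j ≠ i) :
    W j ≤ o2 (normalizer (Z i : Set G)) ⊓ centralizer (o2 (normalizer (Z i : Set G)) : Set G) := by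
  have : Fact (Nat.Prime 2) := ⟨Nat.prime_two⟩
  have h2 : IsPGroup 2 (o2 (normalizer (Z i : Set G)) : Subgroup G) := MinSimple.VModule.o2_isPGroup _
  have h3 := MinSimple.VModule.le_normalizer_o2 (normalizer (Z i : Set G))
  refine le_inf ((h.block j).le_of_char (h.L_norm hij) h2 h3 (h.char_Z i)) ?_
  rw [le_centralizer_iff]
  exact (h.block j).le_centralizer h2 ((h.L_norm hij).trans h3)

theorem C_le [Finite ι] (i : ι) : C i ≤ ⨆ j : {j : ι // j ≠ i}, W j := by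
  classical
  have := Fintype.ofFinite ι
  intro v hv
  have hle : (⨆ j : {j : ι // j ≠ i}, W j) ≤ C i := iSup_le fun j => h.fr.WjC i j j.2.symm
  have key : ∀ s : Finset ι, i ∉ s → ∃ u ∈ ⨆ j : {j : ι // j ≠ i}, W j, ∀ j ∈ s, u⁻¹ * v ∈ C j := by
    intro s
    induction s using Finset.induction_on with
    | empty => exact fun _ => ⟨1, one_mem _, by simp⟩
    | insert j s hj ih =>
      intro hi
      have hji : j ≠ i := fun e => hi (e ▸ Finset.mem_insert_self _ _)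
      obtain ⟨u, hu, h1⟩ := ih fun e => hi (Finset.mem_insert_of_mem e)
      obtain ⟨w, hw, c, hc, e⟩ := h.fr.WC j (u⁻¹ * v) (mul_mem (inv_mem (h.fr.CV i (hle hu))) (h.fr.CV i hv))
      refine ⟨u * w, mul_mem hu (mem_iSup_of_mem (⟨j, hji⟩ : {j : ι // j ≠ i}) hw), fun l hl => ?_⟩
      have e1 : (u * w)⁻¹ * v = w⁻¹ * (u⁻¹ * v) := by group
      rw [e1]
      rcases Finset.mem_insert.1 hl with rfl | hl
      · rw [e]
        have : w⁻¹ * (w * c) = c := by group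
        rwa [this]
      · have hlj : l ≠ j := fun e => hj (e ▸ hl)
        exact mul_mem (inv_mem (h.fr.WjC l j hlj hw)) (h1 l hl)
  obtain ⟨u, hu, h1⟩ := key (Finset.univ.erase i) (Finset.notMem_erase _ _)
  have h2 : u⁻¹ * v = 1 := by
    refine h.fr.C0 _ (mul_mem (inv_mem (h.fr.CV i (hle hu))) (h.fr.CV i hv)) fun j => ?_
    by_cases hj : j = i
    · subst hj
      exact mul_mem (inv_mem (hle hu)) hv
    · exact h1 j (Finset.mem_erase.2 ⟨hj, Finset.mem_univ _⟩)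
  rw [← inv_mul_eq_one.1 h2]
  exact hu

theorem Z_cent_L (i : ι) {z : G} (hz : z ∈ Z i) (hz1 : z ≠ 1) : z ∉ centralizer (L i : Set G) := by
  intro hzc
  obtain ⟨l, hl, hne, -⟩ := (h.fr.blk i).exists_mv
  have h1 := (h.fr.blk i).nat_tri (h.fr.cardZ i) hl hne
  have h2 : z ∈ cj l (Z i) ⊓ Z i := by
    refine mem_inf.2 ⟨?_, hz⟩
    rw [mem_cj]
    have h3 := mem_centralizer_iff.1 hzc l hl
    have h4 : l⁻¹ * z * l = z := by
      calc l⁻¹ * z * l = l⁻¹ * (z * l) := by group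
        _ = l⁻¹ * (l * z) := by rw [h3]
        _ = z := by group
    rwa [h4]
  rw [h1, mem_bot] at h2
  exact hz1 h2

/-- an element of `L i` normalising `B` normalises `Z i` -/
theorem L_inf_norm (i : ι) {x : G} (hx : x ∈ L i) (hxB : x ∈ normalizer (B : Set G)) {z : G}
    (hz : z ∈ Z i) : x * z * x⁻¹ ∈ Z i := by
  refine (h.fr.blk i).toMd.mem_Z_iff.2 ⟨(h.fr.blk i).nV x hx z ((h.fr.blk i).ZV hz), fun b hb => ?_⟩
  have hb' : x⁻¹ * b * x ∈ B := (mem_normalizer_iff''.1 hxB b).1 hb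
  have h7 := congrArg (fun t => x * t * x⁻¹) ((h.fr.blk i).cZ _ hb' z hz)
  simpa [mul_assoc] using h7

/-- `N_{L i}(B)` is transitive on `Z i - 1`. -/
theorem tor (i : ι) {z z' : G} (hz : z ∈ Z i) (hz1 : z ≠ 1) (hz' : z' ∈ Z i) (hz1' : z' ≠ 1) :
    ∃ x ∈ L i, x ∈ normalizer (B : Set G) ∧ x * z * x⁻¹ = z' := by
  obtain ⟨x, hx, hxn, hxc⟩ := (h.fr.blk i).tor z hz (h.Z_cent_L i hz hz1) z' hz' (h.Z_cent_L i hz' hz1')
  refine ⟨x, hx, hxn, ?_⟩
  have h5 : x * z * x⁻¹ * z'⁻¹ ∈ Z i := mul_mem (h.L_inf_norm i hx hxn hz) (inv_mem hz')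
  by_contra hne
  exact h.Z_cent_L i h5 (fun e => hne (mul_inv_eq_one.1 e)) hxc

/-- The hypotheses of TEXT R1 (1). -/
theorem toIn [Finite ι] (i : ι) : WOneG.InG B ZJ (Z i) (W i) (L i ⊓ normalizer (B : Set G))
    (fun j : {j : ι // j ≠ i} => W j) where
  char := h.hyp.ctx.char2
  syl := h.syl_B
  sq := fun z hz => h.fr.Vsq (h.fr.ZV i hz)
  ne := h.Z_ne i
  Z1J := h.fr.Z_le i
  ZJle := by
    intro z hz
    obtain ⟨w, hw, c, hc, -, rfl⟩ := h.fr.split_ZJ i hz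
    exact mul_mem (mem_sup_left hw) (mem_sup_right (h.C_le i hc))
  K := fun j => h.lemK j.2
  NN := fun x hx => by
    rw [mem_normalizer_iff_cj]
    refine Subgroup.eq_of_le_of_card_ge ?_ (by rw [card_cj])
    rintro _ ⟨z, hz, rfl⟩
    exact h.L_inf_norm i hx.1 hx.2 hz
  irr := by
    intro U hU hn hU1 z hz
    obtain ⟨u, hu, hu1⟩ : ∃ u ∈ U, u ≠ 1 := by
      by_contra hcon
      push Not at hcon
      exact hU1 ((eq_bot_iff_forall _).2 hcon)
    by_cases hz1 : z = 1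
    · rw [hz1]; exact one_mem _
    obtain ⟨x, hx, hxn, rfl⟩ := h.tor i (hU hu) hu1 hz hz1
    exact (mem_normalizer_iff.1 (hn ⟨hx, hxn⟩) u).1 hu
  V1S := fun v hv => mem_centralizer_iff.2 fun z hz =>
    h.fr.Vc (h.fr.ZV i hz) (h.fr.WV i hv)
  comm := fun v hv b hb => by
    have h1 := (h.fr.blk i).com b hb v hv
    have e : v * b * v⁻¹ * b⁻¹ = (b * v * b⁻¹ * v⁻¹)⁻¹ := by group
    rw [e]
    exact inv_mem h1

/-- `O₂(N_G(Z i)) ≤ B` -/
theorem o2_le [Finite ι] (i : ι) : o2 (normalizer (Z i : Set G)) ≤ B := (h.toIn i).W_le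

theorem o2_cent [Finite ι] (i : ι) : o2 (normalizer (Z i : Set G)) ≤ centralizer (Z i : Set G) := (h.toIn i).W_cent

theorem W_le_o2 [Finite ι] (i : ι) : W i ≤ o2 (normalizer (Z i : Set G)) := (h.toIn i).V_le

/-- `V_P ≤ O₂(N_G(Z i))` -/
theorem V_le [Finite ι] (i : ι) : zl (S : Subgroup G) P ≤ o2 (normalizer (Z i : Set G)) := by
  intro v hv
  obtain ⟨w, hw, c, hc, rfl⟩ := h.fr.WC i v hv
  exact (h.toIn i).V_le' (mul_mem (mem_sup_left hw) (mem_sup_right (h.C_le i hc)))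

theorem bau_norm : B ≤ normalizer (zl (S : Subgroup G) P : Set G) :=
  h.BS.trans (h.hyp.SP.trans (MinSimple.VModule.le_normalizer_zl _ _))

/-- NOFF for the line `V_P`. -/
theorem noff {a b : G}
    (h1 : cj a (zl (S : Subgroup G) P) ≤ normalizer ((cj b (zl (S : Subgroup G) P) : Subgroup G) : Set G))
    (h2 : cj b (zl (S : Subgroup G) P) ≤ normalizer ((cj a (zl (S : Subgroup G) P) : Subgroup G) : Set G)) :
    cj a (zl (S : Subgroup G) P) ≤ centralizer ((cj b (zl (S : Subgroup G) P) : Subgroup G) : Set G) :=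
  h.hyp.noff h1 h2

/-- `⟨V_P^{N_G(Z i)}⟩` is abelian. -/
theorem comm [Finite ι] (i : ι) {a b : G} (ha : a ∈ normalizer (Z i : Set G)) (hb : b ∈ normalizer (Z i : Set G)) :
    cj a (zl (S : Subgroup G) P) ≤ centralizer ((cj b (zl (S : Subgroup G) P) : Subgroup G) : Set G) := by
  refine (h.toIn i).W1_comm (h.V_le i) h.bau_norm (fun g h1 h2 => ?_) ha hb
  have h3 := h.noff (a := 1) (b := g) (by rwa [cj_one]) (by rwa [cj_one])
  rwa [cj_one] at h3

end one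

/-! ### `N_G(B)`, Sylow subgroups, fusion -/

section two

variable [Finite G] {S : Sylow 2 G} {P : Subgroup G} {ι : Type} {B ZJ : Subgroup G}
  {L W Z C : ι → Subgroup G} {q : ℕ} (h : Bw S P B ZJ L W Z C q)
include h

theorem W_inj {i j : ι} (e : W i = W j) : i = j := by
  by_contra hne
  apply h.W_ne i
  have h1 := h.fr.WjC i j hne
  rw [← e] at h1
  rw [← h.fr.dir i]
  exact (inf_eq_left.2 h1).symm

theorem W_disj {i j : ι} (hne : i ≠ j) : W i ⊓ W j = ⊥ :=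
  le_bot_iff.1 ((inf_le_inf_left _ (h.fr.WjC i j hne)).trans (h.fr.dir i).le)

theorem Z_inj {i j : ι} (e : Z i = Z j) : i = j := by
  by_contra hne
  apply h.Z_ne i
  rw [eq_bot_iff, ← h.W_disj hne]
  exact le_inf (h.fr.blk i).ZV (e ▸ (h.fr.blk j).ZV)

theorem Z_disj {i j : ι} (hne : i ≠ j) : Z i ⊓ Z j = ⊥ :=
  le_bot_iff.1 ((inf_le_inf (h.fr.blk i).ZV (h.fr.blk j).ZV).trans (h.W_disj hne).le)

/-- `g ∈ N_G(B)`, `g W_i = W_j` implies `g Z_i = Z_j`. -/
theorem cj_Z {g : G} (hg : g ∈ normalizer (B : Set G)) {i j : ι} (e : cj g (W i) = W j) :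
    cj g (Z i) = Z j := by
  have key : ∀ (g : G), g ∈ normalizer (B : Set G) → ∀ i j, cj g (W i) = W j →
      cj g (Z i) ≤ Z j := by
    rintro g hg i j e _ ⟨z, hz, rfl⟩
    refine (h.fr.blk j).toMd.mem_Z_iff.2 ⟨e ▸ ⟨z, (h.fr.blk i).ZV hz, rfl⟩, fun b hb => ?_⟩
    have hb' : g⁻¹ * b * g ∈ B := (mem_normalizer_iff''.1 hg b).1 hb
    have h7 := congrArg (fun t => g * t * g⁻¹) ((h.fr.blk i).cZ _ hb' z hz)
    simpa [mul_assoc] using h7
  refine Subgroup.eq_of_le_of_card_ge (key g hg i j e) ?_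
  rw [card_cj, h.fr.cardZ, h.fr.cardZ]

theorem perm_S {s : G} (hs : s ∈ (S : Subgroup G)) : ∃ σ : Equiv.Perm ι, ∀ i, cj s (W i) = W (σ i) ∧
    cj s (Z i) = Z (σ i) ∧ cj s (C i) = C (σ i) := by
  obtain ⟨σ, hσ⟩ := h.perm s (h.hyp.SP hs)
  exact ⟨σ, fun i => ⟨(hσ i).1, h.cj_Z (h.S_norm_B hs) (hσ i).1, (hσ i).2⟩⟩

/-- For `s ∈ S`: `s` normalises `Z i` iff it normalises `W i`. -/
theorem cj_Z_iff {s : G} (hs : s ∈ (S : Subgroup G)) {i j : ι} : cj s (Z i) = Z j ↔ cj s (W i) = W j := by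
  refine ⟨fun e => ?_, h.cj_Z (h.S_norm_B hs)⟩
  obtain ⟨σ, hσ⟩ := h.perm_S hs
  have h1 := (hσ i).2.1
  rw [e] at h1
  rw [h.Z_inj h1]
  exact (hσ i).1

theorem inf_normalizer (i : ι) :
    (S : Subgroup G) ⊓ normalizer (Z i : Set G) = (S : Subgroup G) ⊓ normalizer (W i : Set G) := by
  ext s
  constructor
  · rintro ⟨hs, hn⟩
    exact ⟨hs, mem_normalizer_iff_cj.2 ((h.cj_Z_iff hs).1 (mem_normalizer_iff_cj.1 hn))⟩
  · rintro ⟨hs, hn⟩
    exact ⟨hs, mem_normalizer_iff_cj.2 ((h.cj_Z_iff hs).2 (mem_normalizer_iff_cj.1 hn))⟩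

theorem bau_le_T (i : ι) : B ≤ (S : Subgroup G) ⊓ normalizer (Z i : Set G) :=
  le_inf h.BS (le_trans (fun b hb => mem_centralizer_iff.2 fun z hz => ((h.fr.blk i).cZ b hb z hz).symm)
    (centralizer_le_normalizer _))

/-- **(U1)** -/
theorem norm [Finite ι] {g : G} (hg : g ∈ normalizer (B : Set G)) :
    cj g (zl (S : Subgroup G) P) = zl (S : Subgroup G) P ∧
      ∀ i, ∃ j, cj g (Z i) = Z j ∧ cj g (W i) ≤ W j ⊔ ZJ :=
  h.nrm g hg

/-- `|N_S(Z i)|` does not depend on `i`. -/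
theorem card_T (i j : ι) : Nat.card ((S : Subgroup G) ⊓ normalizer (Z i : Set G) : Subgroup G) =
    Nat.card ((S : Subgroup G) ⊓ normalizer (Z j : Set G) : Subgroup G) := by
  obtain ⟨s, hs, e⟩ := h.trans i j
  have h1 : cj s ((S : Subgroup G) ⊓ normalizer (Z i : Set G)) = (S : Subgroup G) ⊓ normalizer (Z j : Set G) := by
    rw [cj_inf, cj_normalizer, (h.cj_Z_iff hs).2 e, cj_eq_of_mem_normalizer (Subgroup.le_normalizer hs)]
  rw [← h1, card_cj]

/-- A 2-subgroup of `N_G(Z i)` over `B` has order `≤ |N_S(Z i)|`. -/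
theorem card_le [Finite ι] (i : ι) {R : Subgroup G} (hR : IsPGroup 2 R) (hB : B ≤ R)
    (hRn : R ≤ normalizer (Z i : Set G)) :
    Nat.card R ≤ Nat.card ((S : Subgroup G) ⊓ normalizer (Z i : Set G) : Subgroup G) := by
  have h1 := h.le_norm_B hR hB
  obtain ⟨R', hR', hle⟩ := exists_syl hR h1
  have hS : Syl (S : Subgroup G) (normalizer (B : Set G)) :=
    ⟨h.S_norm_B, S.isPGroup', fun _ _ hT hST => S.is_maximal' hT hST⟩
  obtain ⟨x, hx, rfl⟩ := syl_conj hS hR'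
  -- `x⁻¹ R x ≤ S ⊓ N(Z j)`
  obtain ⟨j, hj, -⟩ := (h.norm (inv_mem hx)).2 i
  rw [h.card_T i j, ← card_cj x⁻¹ R]
  refine Subgroup.card_le_of_le (le_inf ?_ ?_)
  · have := cj_mono x⁻¹ hle
    rwa [cj_inv_cj] at this
  · have := cj_mono x⁻¹ hRn
    rwa [cj_normalizer, hj] at this

/-- **`N_S(Z i)` is a Sylow 2-subgroup of `N_G(Z i)`.** -/
theorem syl [Finite ι] (i : ι) : Syl ((S : Subgroup G) ⊓ normalizer (Z i : Set G)) (normalizer (Z i : Set G)) := by
  refine ⟨inf_le_right, S.isPGroup'.to_le inf_le_left, fun R hR h2 hle => ?_⟩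
  symm
  exact Subgroup.eq_of_le_of_card_ge hle (h.card_le i h2 ((h.bau_le_T i).trans hle) hR)

/-- The same for every subgroup of `N_G(Z i)` over `N_S(Z i)`. -/
theorem syl_of_le [Finite ι] (i : ι) {X : Subgroup G} (h1 : (S : Subgroup G) ⊓ normalizer (Z i : Set G) ≤ X)
    (h2 : X ≤ normalizer (Z i : Set G)) : Syl ((S : Subgroup G) ⊓ normalizer (Z i : Set G)) X :=
  ⟨h1, S.isPGroup'.to_le inf_le_left, fun R hR h3 hle => (h.syl i).2.2 R (hR.trans h2) h3 hle⟩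

/-- **(0.2)** An element of `Z_J` conjugate into `Z i` lies in some `Z j`. -/
theorem fus [Finite ι] {i : ι} {x g : G} (hx : x ∈ ZJ) (hg : g⁻¹ * x * g ∈ Z i) :
    ∃ j, x ∈ Z j := by
  -- `B`, `B^g ≤ C(x)`
  have hB1 : B ≤ centralizer ({x} : Set G) := fun b hb => by
    rw [mem_centralizer_singleton_iff]
    exact ((h.fr.mem_ZJ x).1 hx).2 b hb
  have hB2 : cj g (B) ≤ centralizer ({x} : Set G) := by
    rintro _ ⟨b, hb, rfl⟩
    rw [mem_centralizer_singleton_iff]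
    have h1 := (h.fr.blk i).cZ b hb _ hg
    have h2 := congrArg (fun t => g * t * g⁻¹) h1
    simpa [mul_assoc] using h2
  obtain ⟨R, hR, hBR⟩ := exists_syl h.bau_two hB1
  obtain ⟨R', hR', hBR'⟩ := exists_syl (isPGroup_cj g h.bau_two) hB2
  obtain ⟨c, hc, rfl⟩ := syl_conj hR hR'
  have h1 : cj (g * c⁻¹) (cj c B) = cj c B := by
    refine (h.wc.conj c) (cj c R) hR'.2.1 (cj_mono c hBR) (g * c⁻¹) ?_
    rw [cj_cj, inv_mul_cancel_right]
    exact hBR'
  rw [cj_cj, inv_mul_cancel_right] at h1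
  have hnB : c⁻¹ * g ∈ normalizer (B : Set G) := by
    rw [mem_normalizer_iff_cj, ← cj_cj, h1, cj_inv_cj]
  obtain ⟨j, hj1, -⟩ := (h.norm hnB).2 i
  refine ⟨j, ?_⟩
  have hz : (c⁻¹ * g) * (g⁻¹ * x * g) * (c⁻¹ * g)⁻¹ ∈ Z j := hj1 ▸ ⟨_, hg, rfl⟩
  have e2 : c⁻¹ * x * c = x := by
    have h1 := mem_centralizer_singleton_iff.1 (inv_mem hc)
    rw [h1]; group
  have e3 : c⁻¹ * g * (g⁻¹ * x * g) * (c⁻¹ * g)⁻¹ = x := by
    have : c⁻¹ * g * (g⁻¹ * x * g) * (c⁻¹ * g)⁻¹ = c⁻¹ * x * c := by group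
    rw [this, e2]
  rwa [e3] at hz

end two

end Bw

/-! ### Partners, the axioms `PG.PP` -/

namespace Bw

section three

variable [Finite G] {S : Sylow 2 G} {P : Subgroup G} {ι : Type} {B ZJ : Subgroup G}
  {L W Z C : ι → Subgroup G} {q : ℕ} (h : Bw S P B ZJ L W Z C q)
include h

theorem exists_partner (i : ι) : ∃ j s, Pa (S : Subgroup G) W i j s := by
  set T : Subgroup G := (S : Subgroup G) ⊓ normalizer (W i : Set G) with hT
  have hlt : T < (S : Subgroup G) := by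
    refine lt_of_le_of_ne inf_le_left fun e => ?_
    obtain ⟨j, hj⟩ := h.two i
    obtain ⟨s, hs, e1⟩ := h.trans i j
    have h1 : s ∈ T := e ▸ hs
    exact hj (h.W_inj (e1.symm.trans (mem_normalizer_iff_cj.1 h1.2)))
  obtain ⟨s, hs, hsn, hsT, hss⟩ := SporRec.MaxFix.exists_sq_mem S.isPGroup' hlt
  obtain ⟨σ, hσ⟩ := h.perm_S hs
  refine ⟨σ i, s, hs, fun e => hsT ⟨hs, mem_normalizer_iff_cj.2 ?_⟩, (hσ i).1, ?_, hsn⟩
  · rw [(hσ i).1, ← e]
  · rw [← (hσ i).1, cj_cj]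
    exact mem_normalizer_iff_cj.1 hss.2

/-- an element of `P ∩ C(C i)` fixes all `W j` -/
theorem fix {i : ι} {l : G} (hl : l ∈ P) (hlc : l ∈ centralizer (C i : Set G)) (j : ι) : cj l (W j) = W j := by
  classical
  have h1 : ∀ j, j ≠ i → cj l (W j) = W j := fun j hj =>
    mem_normalizer_iff_cj.1 (centralizer_le_normalizer _ (centralizer_le (h.fr.WjC i j hj.symm) hlc))
  obtain ⟨σ, hσ⟩ := h.perm l hl
  by_cases hj : j = i
  · subst hj
    have h2 : σ j = j := by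
      by_contra hne
      have h3 := (hσ (σ j)).1
      rw [h1 _ hne] at h3
      exact hne (σ.injective (h.W_inj h3).symm)
    have h3 := (hσ j).1
    rwa [h2] at h3
  · exact h1 j hj

/-- The neighbours of `Z i`. -/
theorem adj_le {i j : ι} (hij : j ≠ i) {k : G} (hk : k ∈ normalizer (Z i : Set G)) :
    cj k (W j) ≤ o2 (normalizer (Z i : Set G)) ⊓ centralizer (o2 (normalizer (Z i : Set G)) : Set G) := by
  have h1 := cj_mono k (h.lemK hij)
  rwa [cj_inf, cj_centralizer,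
    cj_eq_of_mem_normalizer (MinSimple.VModule.le_normalizer_o2 (normalizer (Z i : Set G)) hk)] at h1

variable {i j : ι} {s : G} (p : Pa (S : Subgroup G) W i j s)
include p

theorem cj_s_Z : cj s (Z i) = Z j := h.cj_Z (h.S_norm_B p.mem) p.ij

theorem cj_s_Z' : cj s (Z j) = Z i := h.cj_Z (h.S_norm_B p.mem) p.ji

/-- `N_S(Z j) = N_S(Z i)` for partners. -/
theorem T_eq : (S : Subgroup G) ⊓ normalizer (Z j : Set G) = (S : Subgroup G) ⊓ normalizer (Z i : Set G) := by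
  have h1 := mem_normalizer_iff_cj.1 p.nT
  rw [← h.inf_normalizer i, cj_inf, cj_normalizer, h.cj_s_Z p,
    cj_eq_of_mem_normalizer (Subgroup.le_normalizer p.mem)] at h1
  exact h1

theorem T_le : (S : Subgroup G) ⊓ normalizer (Z i : Set G) ≤ normalizer (Z i : Set G) ⊓ normalizer (Z j : Set G) :=
  le_inf inf_le_right ((h.T_eq p).ge.trans inf_le_right)

/-- `N_S(Z i)` is a Sylow 2-subgroup of `D_12 = N_G(Z i) ∩ N_G(Z j)`. -/
theorem syl_D [Finite ι] : Syl ((S : Subgroup G) ⊓ normalizer (Z i : Set G))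
    (normalizer (Z i : Set G) ⊓ normalizer (Z j : Set G)) :=
  h.syl_of_le i (h.T_le p) inf_le_left

/-- **The axioms `PG.PP`** of the points and lines (`PG/Base.lean`). -/
theorem toPP [Finite ι] (hTI : TI (Z i))
    (hnl : MinPar.NonLoc (normalizer (Z i : Set G)) (normalizer (Z j : Set G))) :
    PG.PP ![Z i, Z j] ![W i, W j] := by
  have hji : j ≠ i := p.ne.symm
  refine
    { swap := ⟨s, h.cj_s_Z p, h.cj_s_Z' p, p.ij, p.ji⟩
      ZU := (h.fr.blk i).ZV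
      sq := fun x hx => h.fr.Vsq (h.fr.ZV i hx)
      ne := h.Z_ne i
      tr := ?_
      N_le_Q := ?_
      Q_le_cent := ?_
      UQ := ?_
      nonLoc := hnl }
  · intro k hk
    change cj k (Z i) ≤ W i at hk
    change ∃ l : G, cj l (Z i) = cj k (Z i) ∧ cj l (Z j) = Z j ∧ cj l (W i) = W i ∧ cj l (W j) = W j
    obtain ⟨z, hz, hz1⟩ : ∃ x ∈ Z i, x ≠ 1 := by
      by_contra hcon
      push Not at hcon
      exact h.Z_ne i ((eq_bot_iff_forall _).2 hcon)
    have hx : k * z * k⁻¹ ∈ cj k (Z i) := ⟨z, hz, rfl⟩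
    have hx1 : k * z * k⁻¹ ≠ 1 := fun e => hz1 (conj_eq_one_iff.1 e)
    obtain ⟨l, hl, hlc, y, hy, e⟩ := h.tr i _ (hk hx) hx1
    have h1 : cj (l⁻¹ * k) (Z i) = Z i := by
      apply hTI
      intro hbot
      have h2 : y ∈ cj (l⁻¹ * k) (Z i) ⊓ Z i := by
        refine mem_inf.2 ⟨?_, hy⟩
        rw [mem_cj]
        have e1 : (l⁻¹ * k)⁻¹ * y * (l⁻¹ * k) = k⁻¹ * (l * y * l⁻¹) * k := by group
        have e2 : k⁻¹ * (k * z * k⁻¹) * k = z := by group
        rw [e1, e, e2]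
        exact hz
      rw [hbot, mem_bot] at h2
      rw [h2, mul_one, mul_inv_cancel] at e
      exact hx1 e.symm
    refine ⟨l, ?_, ?_, h.fix hl hlc i, h.fix hl hlc j⟩
    · have h2 := congrArg (cj l) h1
      rw [cj_cj, mul_inv_cancel_left] at h2
      exact h2.symm
    · exact mem_normalizer_iff_cj.1 (centralizer_le_normalizer _ (centralizer_le
        ((h.fr.blk j).ZV.trans (h.fr.WjC i j p.ne)) hlc))
  · refine sSup_le ?_
    rintro u ⟨k, hk, rfl⟩
    exact ((cj_mono k (h.fr.blk j).ZV).trans (h.adj_le hji (mem_normalizer_iff_cj.2 hk.symm))).trans inf_le_left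
  · rw [le_centralizer_iff]
    refine sSup_le ?_
    rintro u ⟨k, hk, rfl⟩
    exact ((cj_mono k (h.fr.blk j).ZV).trans (h.adj_le hji (mem_normalizer_iff_cj.2 hk.symm))).trans inf_le_right
  · intro x hx y hy
    exact (h.toIn i).comm x hx y (h.o2_le i hy)

end three

end Bw

theorem Bw.of_bg [Finite G] {S : Sylow 2 G} {P : Subgroup G} {ι : Type} {B ZJ : Subgroup G}
    {L W Z C : ι → Subgroup G} {q : ℕ} (h : Bg S P B ZJ L W Z C q) : Bw S P B ZJ L W Z C q where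
  hyp := HypW.of_hypN h.hyp
  fr := h.fr
  wc := h.wc
  eqB := h.eqB
  SZJ := h.SZJ
  two := h.two
  LP := h.LP
  perm := h.perm
  trans := h.trans
  tr := h.tr
  root := h.root
  nrm := h.nrm
  scal := h.scal

end Cfsg.Agent.Omega.NO3S.EThree.Frame
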