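import Cfsg.Agent.Omega.NO3S.EThree.FrameGB
import Cfsg.Agent.Omega.NO3S.EThreeW.FrameG
import Cfsg.Agent.Omega.NO3S.EThree.StepF

/-!
# NO-3S, `k ≥ 2` natural modules, the frame over `(B, ZJ)`: `N_G(B)` permutes the `W i`, supply of STEP F, `O₂(H₁/F₁) = 1`

`Scal.lean` and `FrameB.lean` over `Bw`:

* `Bw.le_of_triv` : an element of `N_G(V_P)` which is trivial on `ZJ` and `V_P / ZJ` lies in `B C_G(V_P)`;
* `Bw.cj_W`, `Bw.perm_W` : `N_G(B)` permutes the `W i` (all `q`);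
* `Bw.norm_W_of_two` : a 2-group over `B` which normalises `Z i` normalises `W i`;
* `Bw.stepF`, `Bw.NN_eq`, `Bw.core`.
-/

set_option autoImplicit false
set_option linter.unusedSectionVars false

namespace Cfsg.Agent.Omega.NO3S.EThree.Frame

open Subgroup Cfsg Cfsg.Agent.ZN.ChoiceBase
open Cfsg.Agent.ZN (jj zj bau zc zl o2)
open Cfsg.Agent.ZN.ChoiceSit (Syl exists_syl syl_conj)
open Cfsg.Agent.Omega.OM Cfsg.Agent.Omega.OM.Uni
open scoped Pointwise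

universe u

variable {G : Type u} [Group G]

namespace Bw

section triv

variable [Finite G] {S : Sylow 2 G} {P : Subgroup G} {ι : Type} {B ZJ : Subgroup G}
  {L W Z C : ι → Subgroup G} {q : ℕ} (h : Bw S P B ZJ L W Z C q)
include h

/-- `V_P` is centralised modulo... : an element of `N_G(V_P)` trivial on `Z_J` and on `V_P / Z_J` lies in
`B C_G(V_P)`. -/
theorem le_of_triv {y : G} (hy : y ∈ normalizer (zl (S : Subgroup G) P : Set G))
    (h1 : ∀ z ∈ ZJ, y * z = z * y)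
    (h2 : ∀ v ∈ zl (S : Subgroup G) P, y * v * y⁻¹ * v⁻¹ ∈ ZJ) :
    ∃ b ∈ B, ∃ c ∈ centralizer (zl (S : Subgroup G) P : Set G), y = b * c := by
  have : Fact (Nat.Prime 2) := ⟨Nat.prime_two⟩
  set V : Subgroup G := zl (S : Subgroup G) P with hV
  have hsq : ∀ v ∈ V, v * v = 1 := fun v hv => by
    have := SQ1.Bau.elem_sq h.fr.el v hv
    rwa [pow_two] at this
  have hZV : ZJ ≤ V := h.fr.ZJV
  -- the group of these elements
  let Y : Subgroup G :=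
    { carrier := {y | y ∈ normalizer (V : Set G) ∧ (∀ z ∈ ZJ, y * z = z * y) ∧ ∀ v ∈ V, y * v * y⁻¹ * v⁻¹ ∈ ZJ}
      one_mem' := ⟨one_mem _, fun z _ => by simp, fun v _ => by simp⟩
      mul_mem' := by
        rintro a b ⟨ha, ha1, ha2⟩ ⟨hb, hb1, hb2⟩
        refine ⟨mul_mem ha hb, fun z hz => by rw [mul_assoc, hb1 z hz, ← mul_assoc, ha1 z hz, mul_assoc],
          fun v hv => ?_⟩
        have e : a * b * v * (a * b)⁻¹ * v⁻¹ = a * (b * v * b⁻¹ * v⁻¹) * a⁻¹ * (a * v * a⁻¹ * v⁻¹) := by group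
        rw [e]
        refine mul_mem ?_ (ha2 v hv)
        rw [ha1 _ (hb2 v hv), mul_inv_cancel_right]
        exact hb2 v hv
      inv_mem' := by
        rintro a ⟨ha, ha1, ha2⟩
        have hi : ∀ z ∈ ZJ, a⁻¹ * z = z * a⁻¹ := fun z hz => by
          rw [inv_mul_eq_iff_eq_mul, ← mul_assoc, ha1 z hz, mul_inv_cancel_right]
        refine ⟨inv_mem ha, hi, fun v hv => ?_⟩
        have e : a⁻¹ * v * a⁻¹⁻¹ * v⁻¹ = a⁻¹ * (a * v * a⁻¹ * v⁻¹)⁻¹ * a := by group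
        rw [e, hi _ (inv_mem (ha2 v hv)), inv_mul_cancel_right]
        exact inv_mem (ha2 v hv) }
  have hyY : y ∈ Y := ⟨hy, h1, h2⟩
  -- squares centralise `V`
  have hYsq : ∀ y ∈ Y, y * y ∈ centralizer (V : Set G) := by
    rintro y ⟨hy, h1, h2⟩
    rw [mem_centralizer_iff]
    intro v hv
    have hz := h2 v hv
    set z := y * v * y⁻¹ * v⁻¹ with hzd
    have e1 : y * v * y⁻¹ = z * v := by rw [hzd]; group
    have e2 : y * (y * v * y⁻¹) * y⁻¹ = v := by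
      rw [e1]
      have : y * (z * v) * y⁻¹ = (y * z) * y⁻¹ * (y * v * y⁻¹) := by group
      rw [this, e1, h1 z hz, mul_inv_cancel_right, ← mul_assoc, hsq z (hZV hz), one_mul]
    calc v * (y * y) = (y * (y * v * y⁻¹) * y⁻¹) * (y * y) := by rw [e2]
      _ = y * y * v := by group
  -- `S` normalises `Y`
  have hSV : (S : Subgroup G) ≤ normalizer (V : Set G) :=
    h.hyp.SP.trans (MinSimple.VModule.le_normalizer_zl _ _)
  have hSZ : (S : Subgroup G) ≤ normalizer (ZJ : Set G) := h.SZJ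
  have hconj : ∀ s ∈ (S : Subgroup G), ∀ y ∈ Y, s * y * s⁻¹ ∈ Y := by
    rintro s hs y ⟨hy, h1, h2⟩
    have hsV : ∀ v ∈ V, s⁻¹ * v * s ∈ V := fun v hv => by
      have := (mem_normalizer_iff.1 (inv_mem (hSV hs)) v).1 hv
      rwa [inv_inv] at this
    have hsZ : ∀ v ∈ ZJ, s⁻¹ * v * s ∈ ZJ := fun v hv => by
      have := (mem_normalizer_iff.1 (inv_mem (hSZ hs)) v).1 hv
      rwa [inv_inv] at this
    refine ⟨mul_mem (mul_mem (hSV hs) hy) (inv_mem (hSV hs)), fun z hz => ?_, fun v hv => ?_⟩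
    · have h3 := h1 _ (hsZ z hz)
      calc s * y * s⁻¹ * z = s * (y * (s⁻¹ * z * s)) * s⁻¹ := by group
        _ = s * ((s⁻¹ * z * s) * y) * s⁻¹ := by rw [h3]
        _ = z * (s * y * s⁻¹) := by group
    · have h3 := h2 _ (hsV v hv)
      have e : s * y * s⁻¹ * v * (s * y * s⁻¹)⁻¹ * v⁻¹ =
          s * (y * (s⁻¹ * v * s) * y⁻¹ * (s⁻¹ * v * s)⁻¹) * s⁻¹ := by group
      rw [e]
      exact (mem_normalizer_iff.1 (hSZ hs) _).1 h3
  have hSY : (S : Subgroup G) ≤ normalizer (Y : Set G) := by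
    intro s hs
    rw [mem_normalizer_iff]
    refine fun y => ⟨hconj s hs y, fun hy => ?_⟩
    have := hconj s⁻¹ (inv_mem hs) _ hy
    have e : s⁻¹ * (s * y * s⁻¹) * s⁻¹⁻¹ = y := by group
    rwa [e] at this
  -- the images in `N(V) / C(V)`
  set N : Subgroup G := normalizer (V : Set G) with hN
  set K : Subgroup G := centralizer (V : Set G) with hK
  have hKN : K ≤ N := centralizer_le_normalizer _
  have hYN : Y ≤ N := fun y hy => hy.1
  have hnor : (K.subgroupOf N).Normal := by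
    refine ⟨fun x hx g => ?_⟩
    rw [mem_subgroupOf] at hx ⊢
    have h3 : N ≤ normalizer (K : Set G) := Dich.norm_cent
    exact (mem_normalizer_iff.1 (h3 g.2) _).1 hx
  let φ : N →* N ⧸ K.subgroupOf N := QuotientGroup.mk' _
  have h3 : IsPGroup 2 (((S : Subgroup G).subgroupOf N).map φ) := by
    refine IsPGroup.map ?_ φ
    exact S.isPGroup'.comap_subtype
  have h4 : IsPGroup 2 ((Y.subgroupOf N).map φ) := by
    rintro ⟨x, hx⟩
    obtain ⟨y, hy, rfl⟩ := hx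
    refine ⟨1, Subtype.ext ?_⟩
    rw [pow_one]
    change φ y ^ 2 = 1
    rw [← map_pow, pow_two]
    change (QuotientGroup.mk' _) (y * y) = 1
    rw [QuotientGroup.mk'_apply, QuotientGroup.eq_one_iff, mem_subgroupOf]
    exact hYsq _ hy
  have hle : ((S : Subgroup G).subgroupOf N).map φ ≤ normalizer (((Y.subgroupOf N).map φ : Subgroup _) : Set _) := by
    rintro _ ⟨s, hs, rfl⟩
    rw [mem_normalizer_iff]
    have key : ∀ s : N, (s : G) ∈ (S : Subgroup G) → ∀ x ∈ (Y.subgroupOf N).map φ, φ s * x * (φ s)⁻¹ ∈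
        (Y.subgroupOf N).map φ := by
      rintro s hs _ ⟨y, hy, rfl⟩
      refine ⟨s * y * s⁻¹, ?_, by rw [map_mul, map_mul, map_inv]⟩
      exact hconj s hs y hy
    refine fun x => ⟨key s hs x, fun hx => ?_⟩
    have := key s⁻¹ (inv_mem hs) _ hx
    rw [map_inv] at this
    have e : (φ s)⁻¹ * (φ s * x * (φ s)⁻¹) * (φ s)⁻¹⁻¹ = x := by group
    rwa [e] at this
  have h5 : IsPGroup 2 (((S : Subgroup G).subgroupOf N).map φ ⊔ (Y.subgroupOf N).map φ : Subgroup _) :=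
    IsPGroup.to_sup_of_normal_right' h3 h4 hle
  -- the image of `S` is a Sylow subgroup
  have hmax : ∀ R : Subgroup (N ⧸ K.subgroupOf N), IsPGroup 2 R → ((S : Subgroup G).subgroupOf N).map φ ≤ R →
      R = ((S : Subgroup G).subgroupOf N).map φ := by
    intro R hR hle
    have h6 : ¬ 2 ∣ (((S : Subgroup G).subgroupOf N).map φ).index := by
      intro hd
      have h7 : (((S : Subgroup G).subgroupOf N).map φ).index ∣ ((S : Subgroup G).subgroupOf N).index :=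
        Subgroup.index_map_dvd _ (QuotientGroup.mk'_surjective _)
      have h8 := Cfsg.Agent.ZN.ChoiceSit.syl_not_dvd (T := (S : Subgroup G)) (X := N)
        ⟨hSV, S.isPGroup', fun _ _ hT hST => S.is_maximal' hT hST⟩
      exact h8 (hd.trans h7)
    symm
    refine le_antisymm hle ?_
    have h7 : (((S : Subgroup G).subgroupOf N).map φ).relIndex R ∣ (((S : Subgroup G).subgroupOf N).map φ).index :=
      Subgroup.relIndex_dvd_index_of_le hle
    obtain ⟨n, hn⟩ := IsPGroup.iff_card.1 hR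
    have h8 : (((S : Subgroup G).subgroupOf N).map φ).relIndex R ∣ 2 ^ n := hn ▸ Subgroup.relIndex_dvd_card _ _
    obtain ⟨a, -, ha⟩ := (Nat.dvd_prime_pow Nat.prime_two).1 h8
    rcases Nat.eq_zero_or_pos a with rfl | ha0
    · rw [pow_zero] at ha
      exact relIndex_eq_one.1 ha
    · exact absurd ((dvd_pow_self 2 ha0.ne').trans (ha ▸ h7)) h6
  have h6 := hmax _ h5 le_sup_left
  have h7 : φ ⟨y, hy⟩ ∈ ((S : Subgroup G).subgroupOf N).map φ := by
    rw [← h6]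
    exact mem_sup_right ⟨⟨y, hy⟩, hyY, rfl⟩
  obtain ⟨s, hs, e⟩ := h7
  have h8 : (s : G)⁻¹ * y ∈ K := by
    have e' : (QuotientGroup.mk' (K.subgroupOf N)) s = (QuotientGroup.mk' (K.subgroupOf N)) ⟨y, hy⟩ := e
    rw [QuotientGroup.mk'_apply, QuotientGroup.mk'_apply, QuotientGroup.eq, mem_subgroupOf] at e'
    exact e'
  refine ⟨s, h.mem_B hs fun z hz => ?_, (s : G)⁻¹ * y, h8, by group⟩
  -- `s = y c⁻¹` centralises `Z_J`
  have h9 : ((s : G)⁻¹ * y) * z = z * ((s : G)⁻¹ * y) := (mem_centralizer_iff.1 h8 z (hZV hz)).symm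
  have h10 := h1 z hz
  symm
  calc z * (s : G) = s * ((s : G)⁻¹ * z * s) := by group
    _ = s * ((s : G)⁻¹ * (z * y) * y⁻¹ * s) := by group
    _ = s * ((s : G)⁻¹ * (y * z) * y⁻¹ * s) := by rw [h10]
    _ = s * (((s : G)⁻¹ * y) * z * y⁻¹ * s) := by group
    _ = s * (z * ((s : G)⁻¹ * y) * y⁻¹ * s) := by rw [h9]
    _ = (s : G) * z := by group

end triv

section perm

variable [Finite G] {S : Sylow 2 G} {P : Subgroup G} {ι : Type} {B ZJ : Subgroup G}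
  {L W Z C : ι → Subgroup G} {q : ℕ} (h : Bw S P B ZJ L W Z C q)
include h

/-- `Z_J ∩ C i` is generated by the other `Z j`. -/
theorem ZC_le [Finite ι] (i : ι) : ZJ ⊓ C i ≤ ⨆ j : {j : ι // j ≠ i}, Z j := by
  classical
  have := Fintype.ofFinite ι
  rintro v ⟨hvJ, hv⟩
  have hle : (⨆ j : {j : ι // j ≠ i}, Z j) ≤ ZJ ⊓ C i :=
    iSup_le fun j => le_inf (h.fr.Z_le j) ((h.fr.blk j).ZV.trans (h.fr.WjC i j j.2.symm))
  have key : ∀ s : Finset ι, i ∉ s → ∃ u ∈ ⨆ j : {j : ι // j ≠ i}, Z j, ∀ j ∈ s, u⁻¹ * v ∈ C j := by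
    intro s
    induction s using Finset.induction_on with
    | empty => exact fun _ => ⟨1, one_mem _, by simp⟩
    | insert j s hj ih =>
      intro hi
      have hji : j ≠ i := fun e => hi (e ▸ Finset.mem_insert_self _ _)
      obtain ⟨u, hu, h1⟩ := ih fun e => hi (Finset.mem_insert_of_mem e)
      obtain ⟨w, hw, c, hc, -, e⟩ := h.fr.split_ZJ j (mul_mem (inv_mem (hle hu).1) hvJ)
      refine ⟨u * w, mul_mem hu (mem_iSup_of_mem (⟨j, hji⟩ : {j : ι // j ≠ i}) hw), fun l hl => ?_⟩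
      have e1 : (u * w)⁻¹ * v = w⁻¹ * (u⁻¹ * v) := by group
      rw [e1]
      rcases Finset.mem_insert.1 hl with rfl | hl
      · rw [e]
        have : w⁻¹ * (w * c) = c := by group
        rwa [this]
      · have hlj : l ≠ j := fun e => hj (e ▸ hl)
        exact mul_mem (inv_mem (h.fr.WjC l j hlj ((h.fr.blk j).ZV hw))) (h1 l hl)
  obtain ⟨u, hu, h1⟩ := key (Finset.univ.erase i) (Finset.notMem_erase _ _)
  have h2 : u⁻¹ * v = 1 := by
    refine h.fr.C0 _ (mul_mem (inv_mem (h.fr.CV i (hle hu).2)) (h.fr.CV i hv)) fun j => ?_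
    by_cases hj : j = i
    · subst hj
      exact mul_mem (inv_mem (hle hu).2) hv
    · exact h1 j (Finset.mem_erase.2 ⟨hj, Finset.mem_univ _⟩)
  rw [← inv_mul_eq_one.1 h2]
  exact hu

theorem cj_inv_eq {g : G} {X Y : Subgroup G} (e : cj g X = Y) : cj g⁻¹ Y = X := by
  rw [← e, cj_inv_cj]

/-- the permutation of the `Z i` induced by `g ∈ N_G(B)` and by `g⁻¹` -/
theorem norm_inv [Finite ι] {g : G} (hg : g ∈ normalizer (B : Set G)) {i j : ι}
    (e : cj g (Z i) = Z j) : cj g (W i) ≤ W j ⊔ ZJ ∧ cj g⁻¹ (W j) ≤ W i ⊔ ZJ := by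
  have key : ∀ g ∈ normalizer (B : Set G), ∀ i j, cj g (Z i) = Z j →
      cj g (W i) ≤ W j ⊔ ZJ := by
    intro g hg i j e
    obtain ⟨j', h1, h2⟩ := (h.norm hg).2 i
    rw [e] at h1
    rwa [← h.Z_inj h1] at h2
  exact ⟨key g hg i j e, key g⁻¹ (inv_mem hg) j i (by rw [← e, cj_inv_cj])⟩

/-- `v ∈ W i`, `v ∉ Z i` is not in `Z_J`. -/
theorem not_zj {i : ι} {v : G} (hv : v ∈ W i) (hvZ : v ∉ Z i) : v ∉ ZJ := fun hJ =>
  hvZ ((h.fr.blk i).toMd.mem_Z_iff.2 ⟨hv, ((h.fr.mem_ZJ v).1 hJ).2⟩)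

/-- elements of `V_P` with the same commutators with `B` are congruent mod `Z_J` -/
theorem eq_mod {v w : G} (hv : v ∈ zl (S : Subgroup G) P) (hw : w ∈ zl (S : Subgroup G) P)
    (e : ∀ b ∈ B, b * v * b⁻¹ * v⁻¹ = b * w * b⁻¹ * w⁻¹) : w⁻¹ * v ∈ ZJ := by
  refine (h.fr.mem_ZJ _).2 ⟨mul_mem (inv_mem hw) hv, fun b hb => ?_⟩
  have hbw : b * w * b⁻¹ ∈ zl (S : Subgroup G) P := (mem_normalizer_iff.1 (h.bau_norm hb) w).1 hw
  have e1 := e b hb
  have e2 : b * v * b⁻¹ = b * w * b⁻¹ * w⁻¹ * v := by rw [← e1]; group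
  have e3 : b * (w⁻¹ * v) * b⁻¹ = (b * w * b⁻¹)⁻¹ * (b * v * b⁻¹) := by group
  have e4 : b * (w⁻¹ * v) * b⁻¹ = w⁻¹ * v := by
    rw [e3, e2]; group
  calc b * (w⁻¹ * v) = b * (w⁻¹ * v) * b⁻¹ * b := by group
    _ = w⁻¹ * v * b := by rw [e4]

/-- commutators with `B` do not change mod `Z_J` -/
theorem comm_mul {v z b : G} (hz : z ∈ ZJ) (hb : b ∈ B) :
    b * (v * z) * b⁻¹ * (v * z)⁻¹ = b * v * b⁻¹ * v⁻¹ := by
  have h1 : b * z = z * b := ((h.fr.mem_ZJ z).1 hz).2 b hb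
  calc b * (v * z) * b⁻¹ * (v * z)⁻¹ = b * v * (z * b⁻¹) * z⁻¹ * v⁻¹ := by group
    _ = b * v * (b⁻¹ * (b * z) * b⁻¹) * z⁻¹ * v⁻¹ := by group
    _ = b * v * (b⁻¹ * (z * b) * b⁻¹) * z⁻¹ * v⁻¹ := by rw [h1]
    _ = b * v * b⁻¹ * v⁻¹ := by group

/-- **`q ≥ 3`**: `g ∈ N_G(B)`, `g Z_i = Z_j` implies `g W_i = W_j`. -/
theorem cj_W_of_three [Finite ι] (hq : 2 < q) (hs : ∀ i, ScalG B P W Z C i) {n : G}
    (hn : n ∈ normalizer (B : Set G)) {i j : ι} (e : cj n (Z i) = Z j) : cj n (W i) = W j := by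
  classical
  set V : Subgroup G := zl (S : Subgroup G) P with hV
  obtain ⟨hnW, hnW'⟩ := h.norm_inv hn e
  have hnV : cj n V = V := (h.norm hn).1
  have hnJ : cj n ZJ = ZJ := mem_normalizer_iff_cj.1 (h.norm_ZJ hn)
  have hnB : ∀ b ∈ B, n⁻¹ * b * n ∈ B := fun b hb => (mem_normalizer_iff''.1 hn b).1 hb
  have hnJ' : ∀ z ∈ ZJ, n * z * n⁻¹ ∈ ZJ := fun z hz => hnJ ▸ ⟨z, hz, rfl⟩
  have hnV' : ∀ z ∈ V, n * z * n⁻¹ ∈ V := fun z hz => hnV ▸ ⟨z, hz, rfl⟩
  have hZV : ZJ ≤ V := h.fr.ZJV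
  have hWV : ∀ i, W i ≤ V := h.fr.WV
  have hVc : ∀ x ∈ V, ∀ y ∈ V, x * y = y * x := fun x hx y hy => h.fr.Vc hx hy
  -- elements of `n W_i`
  have hdec : ∀ w ∈ W i, ∃ w' ∈ W j, ∃ z ∈ ZJ, n * w * n⁻¹ = w' * z := by
    intro w hw
    exact SQ1.Bau.mem_sup_comm (fun a ha b hb => hVc a (hWV j ha) b (hZV hb)) (hnW ⟨w, hw, rfl⟩)
  -- two vectors
  obtain ⟨v₀, hv₀, hv₀Z⟩ : ∃ v ∈ W i, v ∉ Z i := by
    by_contra hcon
    push Not at hcon
    have h1 := (h.fr.blk i).card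
    have h2 := Subgroup.card_le_of_le (show W i ≤ Z i from hcon)
    have h3 : 0 < Nat.card (Z i) := Nat.card_pos
    nlinarith [(h.fr.blk i).one]
  obtain ⟨v₀', hv₀', hv₀Z', hvv⟩ : ∃ v ∈ W i, v ∉ Z i ∧ v⁻¹ * v₀ ∉ Z i := by
    by_contra hcon
    push Not at hcon
    -- `W i = Z i ∪ v₀ Z i`
    have h1 := (h.fr.blk i).card
    have h4 : (Z i).relIndex (W i) = q := by
      have h5 := Subgroup.relIndex_mul_relIndex ⊥ (Z i) (W i) bot_le (h.fr.blk i).ZV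
      rw [Subgroup.relIndex_bot_left, Subgroup.relIndex_bot_left, h1] at h5
      exact Nat.eq_of_mul_eq_mul_left Nat.card_pos h5
    have h6 : ∀ x : W i ⧸ (Z i).subgroupOf (W i), x = QuotientGroup.mk 1 ∨ x = QuotientGroup.mk ⟨v₀, hv₀⟩ := by
      intro x
      obtain ⟨⟨y, hy⟩, rfl⟩ := QuotientGroup.mk_surjective x
      by_cases hyZ : y ∈ Z i
      · left
        rw [QuotientGroup.eq, mem_subgroupOf]
        change y⁻¹ * 1 ∈ Z i
        rw [mul_one]; exact inv_mem hyZ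
      · right
        rw [QuotientGroup.eq, mem_subgroupOf]
        exact hcon y hy hyZ
    have h7 : Nat.card (W i ⧸ (Z i).subgroupOf (W i)) ≤ 2 := by
      have hsurj : Function.Surjective (fun t : Fin 2 => if t = 0 then
          (QuotientGroup.mk (1 : W i) : W i ⧸ (Z i).subgroupOf (W i)) else QuotientGroup.mk ⟨v₀, hv₀⟩) := by
        intro x
        rcases h6 x with h6 | h6
        · exact ⟨0, by rw [h6]; rfl⟩
        · exact ⟨1, by rw [h6]; rfl⟩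
      have := Nat.card_le_card_of_surjective _ hsurj
      simpa using this
    rw [Subgroup.relIndex, Subgroup.index_eq_card] at h4
    omega
  obtain ⟨a, haP, haC, haZ, ha1, ha2, -⟩ := (hs i).ex v₀ hv₀ hv₀Z v₀' hv₀' hv₀Z'
  obtain ⟨v, hv, z, hz, e1⟩ := hdec v₀ hv₀
  obtain ⟨v', hv', z', hz', e1'⟩ := hdec v₀' hv₀'
  have hnZJ : ∀ {x : G}, x ∈ W i → x ∉ Z i → n * x * n⁻¹ ∉ ZJ := by
    intro x hx hxZ hxJ
    apply h.not_zj hx hxZ
    have h1 : n * x * n⁻¹ ∈ cj n ZJ := by rw [hnJ]; exact hxJ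
    rw [mem_cj] at h1
    have e2 : n⁻¹ * (n * x * n⁻¹) * n = x := by group
    rwa [e2] at h1
  have hvZ : v ∉ Z j := fun h1 => hnZJ hv₀ hv₀Z (by rw [e1]; exact mul_mem (h.fr.Z_le j h1) hz)
  have hvZ' : v' ∉ Z j := fun h1 => hnZJ hv₀' hv₀Z' (by rw [e1']; exact mul_mem (h.fr.Z_le j h1) hz')
  have hvv' : v'⁻¹ * v ∉ Z j := by
    intro h1
    refine hnZJ (mul_mem (inv_mem hv₀') hv₀) hvv ?_
    have e2 : n * (v₀'⁻¹ * v₀) * n⁻¹ = (n * v₀' * n⁻¹)⁻¹ * (n * v₀ * n⁻¹) := by group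
    have e3 : (v' * z')⁻¹ * (v * z) = z'⁻¹ * (v'⁻¹ * v) * z := by group
    rw [e2, e1, e1', e3]
    exact mul_mem (mul_mem (inv_mem hz') (h.fr.Z_le j h1)) hz
  obtain ⟨a', haP', haC', haZ', ha1', ha2', ha3'⟩ := (hs j).ex v hv hvZ v' hv' hvZ'
  replace ha3' := ha3' hvv'
  -- `N_G(V)`
  have hPV : P ≤ normalizer (V : Set G) := MinSimple.VModule.le_normalizer_zl _ _
  have haV : ∀ x ∈ V, a * x * a⁻¹ ∈ V := fun x hx => (mem_normalizer_iff.1 (hPV haP) x).1 hx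
  have haV' : ∀ x ∈ V, a' * x * a'⁻¹ ∈ V := fun x hx => (mem_normalizer_iff.1 (hPV haP') x).1 hx
  -- `a'` normalises `ZJ`
  have haJ' : cj a' ZJ ≤ ZJ := by
    rintro _ ⟨x, hx, rfl⟩
    obtain ⟨w, hw, c, hc, hcJ, rfl⟩ := h.fr.split_ZJ j hx
    have e2 : a' * (w * c) * a'⁻¹ = (a' * w * a'⁻¹) * c := by
      have := mem_centralizer_iff.1 haC' c hc
      calc a' * (w * c) * a'⁻¹ = a' * w * (c * a'⁻¹) := by group
        _ = a' * w * (a'⁻¹ * (a' * c) * a'⁻¹) := by group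
        _ = a' * w * (a'⁻¹ * (c * a') * a'⁻¹) := by rw [this]
        _ = (a' * w * a'⁻¹) * c := by group
    change a' * (w * c) * a'⁻¹ ∈ ZJ
    rw [e2]
    exact mul_mem (h.fr.Z_le j ((mem_normalizer_iff.1 haZ' w).1 hw)) hcJ
  have haJ'eq : cj a' ZJ = ZJ := Subgroup.eq_of_le_of_card_ge haJ' (by rw [card_cj])
  have haJi' : ∀ x ∈ ZJ, a'⁻¹ * x * a' ∈ ZJ := by
    intro x hx
    have : x ∈ cj a' ZJ := by rw [haJ'eq]; exact hx
    exact mem_cj.1 this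
  set t : G := n * a * n⁻¹ with ht
  -- `t` and `a'` centralise `ZJ ∩ C j`
  have htC : ∀ x ∈ ZJ, x ∈ C j → t * x = x * t := by
    intro x hx hxC
    have h1 : ∀ l : {l : ι // l ≠ j}, Z l ≤ centralizer ({t} : Set G) := by
      rintro ⟨l, hl⟩ x hx
      obtain ⟨l', h2, -⟩ := (h.norm (inv_mem hn)).2 l
      have hl' : l' ≠ i := by
        rintro rfl
        have h3 := congrArg (cj n) h2
        rw [cj_cj_inv, e] at h3
        exact hl (h.Z_inj h3)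
      have h3 : n⁻¹ * x * n ∈ Z l' := by
        rw [← h2]
        exact ⟨x, hx, by simp⟩
      have h4 := mem_centralizer_iff.1 haC _ (h.fr.WjC i l' hl'.symm ((h.fr.blk l').ZV h3))
      rw [mem_centralizer_singleton_iff]
      calc x * t = n * ((n⁻¹ * x * n) * a) * n⁻¹ := by rw [ht]; group
        _ = n * (a * (n⁻¹ * x * n)) * n⁻¹ := by rw [h4]
        _ = t * x := by rw [ht]; group
    have h2 := (h.ZC_le j).trans (iSup_le h1) ⟨hx, hxC⟩
    exact (mem_centralizer_singleton_iff.1 h2).symm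
  -- on `Z j`
  have htZ : ∀ x ∈ Z j, t⁻¹ * x * t = a'⁻¹ * x * a' := by
    intro x hx
    obtain ⟨b, hb, rfl⟩ := (hs j).surj v hv hvZ x hx
    have hb0 := hnB b hb
    set b₀ : G := n⁻¹ * b * n with hb₀
    have e2 : b * v * b⁻¹ * v⁻¹ = n * (b₀ * v₀ * b₀⁻¹ * v₀⁻¹) * n⁻¹ := by
      rw [← h.comm_mul (v := v) hz hb, ← e1, hb₀]; group
    have e3 : a⁻¹ * (b₀ * v₀ * b₀⁻¹ * v₀⁻¹) * a = b₀ * v₀' * b₀⁻¹ * v₀'⁻¹ := by
      rw [← ha1 b₀ hb0 v₀ hv₀, ← h.comm_mul (v := v₀') (h.fr.Z_le i ha2) hb0]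
      have : v₀' * (v₀'⁻¹ * (a * v₀ * a⁻¹)) = a * v₀ * a⁻¹ := by group
      rw [this]
    have e4 : n * (b₀ * v₀' * b₀⁻¹ * v₀'⁻¹) * n⁻¹ = b * v' * b⁻¹ * v'⁻¹ := by
      rw [← h.comm_mul (v := v') hz' hb, ← e1', hb₀]; group
    have e5 : a'⁻¹ * (b * v * b⁻¹ * v⁻¹) * a' = b * v' * b⁻¹ * v'⁻¹ := by
      rw [← ha1' b hb v hv, ← h.comm_mul (v := v') (h.fr.Z_le j ha2') hb]
      have : v' * (v'⁻¹ * (a' * v * a'⁻¹)) = a' * v * a'⁻¹ := by group
      rw [this]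
    rw [e5, e2, ← e4, ← e3, ht]
    group
  -- `y = a'⁻¹ t`
  set y : G := a'⁻¹ * t with hy
  have htV : t ∈ normalizer (V : Set G) := by
    rw [mem_normalizer_iff_cj, ht]
    have hnn : n ∈ normalizer (V : Set G) := mem_normalizer_iff_cj.2 hnV
    exact mem_normalizer_iff_cj.1 (mul_mem (mul_mem hnn (hPV haP)) (inv_mem hnn))
  have hyV : y ∈ normalizer (V : Set G) := mul_mem (inv_mem (hPV haP')) htV
  have hy1 : ∀ x ∈ ZJ, y * x = x * y := by
    intro x hx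
    obtain ⟨w, hw, c, hc, hcJ, rfl⟩ := h.fr.split_ZJ j hx
    have e2 : y * c = c * y := by
      have h1 := htC c hcJ hc
      have h2 := mem_centralizer_iff.1 haC' c hc
      calc y * c = a'⁻¹ * (t * c) := by rw [hy]; group
        _ = a'⁻¹ * (c * t) := by rw [h1]
        _ = a'⁻¹ * (c * a') * a'⁻¹ * t := by group
        _ = a'⁻¹ * (a' * c) * a'⁻¹ * t := by rw [h2]
        _ = c * y := by rw [hy]; group
    have e3 : y * w = w * y := by
      have hw' : a' * w * a'⁻¹ ∈ Z j := (mem_normalizer_iff.1 haZ' w).1 hw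
      have h1 := htZ _ hw'
      have h2 : a'⁻¹ * (a' * w * a'⁻¹) * a' = w := by group
      rw [h2] at h1
      calc y * w = y * (t⁻¹ * (a' * w * a'⁻¹) * t) := by rw [h1]
        _ = w * y := by rw [hy]; group
    calc y * (w * c) = (y * w) * c := by group
      _ = w * (y * c) := by rw [e3]; group
      _ = w * c * y := by rw [e2]; group
  have hy2 : ∀ x ∈ V, y * x * y⁻¹ * x⁻¹ ∈ ZJ := by
    -- it is enough to compare `t x t⁻¹` and `a' x a'⁻¹`
    have hred : ∀ x ∈ V, (a' * x * a'⁻¹)⁻¹ * (t * x * t⁻¹) ∈ ZJ → y * x * y⁻¹ * x⁻¹ ∈ ZJ := by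
      intro x hx hxJ
      have hxi := haJi' _ hxJ
      have e2 : a'⁻¹ * ((a' * x * a'⁻¹)⁻¹ * (t * x * t⁻¹)) * a' = x⁻¹ * (y * x * y⁻¹) := by rw [hy]; group
      rw [e2] at hxi
      have hyx : y * x * y⁻¹ ∈ V := (mem_normalizer_iff.1 hyV x).1 hx
      rwa [hVc _ (inv_mem hx) _ hyx] at hxi
    have hmul : ∀ x ∈ V, ∀ x' ∈ V, y * x * y⁻¹ * x⁻¹ ∈ ZJ → y * x' * y⁻¹ * x'⁻¹ ∈ ZJ →
        y * (x * x') * y⁻¹ * (x * x')⁻¹ ∈ ZJ := by
      intro x hx x' hx' h1 h2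
      have hyx : y * x' * y⁻¹ ∈ V := (mem_normalizer_iff.1 hyV x').1 hx'
      have e2 : y * (x * x') * y⁻¹ * (x * x')⁻¹ = (y * x * y⁻¹) * (y * x' * y⁻¹ * x'⁻¹) * x⁻¹ := by group
      have hyx0 : y * x * y⁻¹ ∈ V := (mem_normalizer_iff.1 hyV x).1 hx
      rw [e2, hVc _ hyx0 _ (hZV h2), mul_assoc]
      exact mul_mem h2 h1
    intro x hx
    -- `x = n x₀ n⁻¹`
    obtain ⟨x₀, hx₀, rfl⟩ : ∃ x₀ ∈ V, n * x₀ * n⁻¹ = x := by
      have h1 : x ∈ cj n V := by rw [hnV]; exact hx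
      exact ⟨_, mem_cj.1 h1, by group⟩
    obtain ⟨w, hw, c, hc, rfl⟩ := h.fr.WC i x₀ hx₀
    have e2 : n * (w * c) * n⁻¹ = (n * w * n⁻¹) * (n * c * n⁻¹) := by group
    rw [e2]
    have hcV : c ∈ V := h.fr.CV i hc
    refine hmul _ (hnV' w (hWV i hw)) _ (hnV' c hcV) (hred _ (hnV' w (hWV i hw)) ?_) (hred _ (hnV' c hcV) ?_)
    · -- `w ∈ W i`
      obtain ⟨w', hw', z'', hz'', e3⟩ := hdec w hw
      have e4 : t * (n * w * n⁻¹) * t⁻¹ = n * (a * w * a⁻¹) * n⁻¹ := by rw [ht]; group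
      have e5 : a' * (n * w * n⁻¹) * a'⁻¹ = (a' * w' * a'⁻¹) * (a' * z'' * a'⁻¹) := by rw [e3]; group
      have hz3 : a' * z'' * a'⁻¹ ∈ ZJ := haJ' ⟨z'', hz'', rfl⟩
      refine h.eq_mod (by rw [e4]; exact hnV' _ (haV w (hWV i hw))) (haV' _ (hnV' w (hWV i hw))) fun b hb => ?_
      have hb0 := hnB b hb
      rw [e5, h.comm_mul hz3 hb, ha1' b hb w' hw', e4]
      set b₀ : G := n⁻¹ * b * n with hb₀
      have e6 : b * (n * (a * w * a⁻¹) * n⁻¹) * b⁻¹ * (n * (a * w * a⁻¹) * n⁻¹)⁻¹ =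
          n * (b₀ * (a * w * a⁻¹) * b₀⁻¹ * (a * w * a⁻¹)⁻¹) * n⁻¹ := by rw [hb₀]; group
      have e7 : n * (a⁻¹ * (b₀ * w * b₀⁻¹ * w⁻¹) * a) * n⁻¹ = t⁻¹ * (b * (n * w * n⁻¹) * b⁻¹ * (n * w * n⁻¹)⁻¹) * t := by
        rw [hb₀, ht]; group
      rw [e6, ha1 b₀ hb0 w hw, e7, e3, h.comm_mul hz'' hb]
      exact htZ _ ((h.fr.blk j).com b hb w' hw')
    · -- `c ∈ C i`
      have e4 : t * (n * c * n⁻¹) * t⁻¹ = n * c * n⁻¹ := by
        have := mem_centralizer_iff.1 haC c hc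
        rw [ht]
        calc n * a * n⁻¹ * (n * c * n⁻¹) * (n * a * n⁻¹)⁻¹ = n * ((a * c) * a⁻¹) * n⁻¹ := by group
          _ = n * ((c * a) * a⁻¹) * n⁻¹ := by rw [this]
          _ = n * c * n⁻¹ := by group
      rw [e4]
      -- `n c n⁻¹ ∈ C j ZJ`
      have hcJ : n * c * n⁻¹ ∈ C j ⊔ ZJ := by
        have h1 : cj n (⨆ l : {l : ι // l ≠ i}, W l) ≤ C j ⊔ ZJ := by
          have e5 : cj n (⨆ l : {l : ι // l ≠ i}, W l) = ⨆ l : {l : ι // l ≠ i}, cj n (W l) :=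
            Subgroup.map_iSup _ _
          rw [e5]
          refine iSup_le fun l => ?_
          obtain ⟨l', h2, h3⟩ := (h.norm hn).2 l
          refine h3.trans (sup_le_sup_right (h.fr.WjC j l' fun h4 => l.2 ?_) _)
          rw [← h4, ← e] at h2
          have h5 := congrArg (cj n⁻¹) h2
          rw [cj_inv_cj, cj_inv_cj] at h5
          exact h.Z_inj h5
        exact h1 ⟨c, h.C_le i hc, rfl⟩
      obtain ⟨c', hc', z'', hz'', e5⟩ := SQ1.Bau.mem_sup_comm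
        (fun x hx y hy => hVc x (h.fr.CV j hx) y (hZV hy)) hcJ
      have e6 : a' * (n * c * n⁻¹) * a'⁻¹ = c' * (a' * z'' * a'⁻¹) := by
        have := mem_centralizer_iff.1 haC' c' hc'
        rw [e5]
        calc a' * (c' * z'') * a'⁻¹ = (a' * c') * z'' * a'⁻¹ := by group
          _ = (c' * a') * z'' * a'⁻¹ := by rw [this]
          _ = c' * (a' * z'' * a'⁻¹) := by group
      rw [e6, e5]
      have e7 : (c' * (a' * z'' * a'⁻¹))⁻¹ * (c' * z'') = (a' * z'' * a'⁻¹)⁻¹ * z'' := by group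
      rw [e7]
      exact mul_mem (inv_mem (haJ' ⟨z'', hz'', rfl⟩)) hz''
  obtain ⟨b, hb, c, hc, e8⟩ := h.le_of_triv hyV hy1 hy2
  -- `a'` normalises `U = n W_i`
  set U : Subgroup G := cj n (W i) with hU
  have hUV : U ≤ V := by
    rw [hU, ← hnV]
    exact cj_mono n (hWV i)
  have haW : a ∈ normalizer (W i : Set G) := mem_normalizer_iff_cj.2 (h.fix haP haC i)
  have hBW : B ≤ normalizer (W i : Set G) := (h.fr.blk i).BL.trans (h.block i).LV
  have htU : t ∈ normalizer (U : Set G) := by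
    rw [hU, ← cj_normalizer]
    exact ⟨a, haW, rfl⟩
  have hBU : B ≤ normalizer (U : Set G) := by
    have h1 := cj_mono n hBW
    rwa [cj_eq_of_mem_normalizer hn, cj_normalizer] at h1
  have hcU : c ∈ normalizer (U : Set G) := centralizer_le_normalizer _ (centralizer_le hUV hc)
  have haU : a' ∈ normalizer (U : Set G) := by
    have e9 : a' = t * (b * c)⁻¹ := by rw [← e8, hy]; group
    rw [e9]
    exact mul_mem htU (inv_mem (mul_mem (hBU hb) hcU))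
  -- `W j ≤ U`
  have hZU : Z j ≤ U := by
    rw [hU, ← e]
    exact cj_mono n (h.fr.blk i).ZV
  have key : ∀ w ∈ W j, a' * w * a'⁻¹ * w⁻¹ ∈ U := by
    intro w hw
    have h1 : n⁻¹ * w * n ∈ W i ⊔ ZJ := hnW' ⟨w, hw, by simp⟩
    obtain ⟨x, hx, z₁, hz₁, e9⟩ := SQ1.Bau.mem_sup_comm
        (fun x hx y hy => hVc x (hWV i hx) y (hZV hy)) h1
    have e10 : w = (n * x * n⁻¹) * (n * z₁ * n⁻¹) := by
      have : w = n * (n⁻¹ * w * n) * n⁻¹ := by group
      rw [this, e9]; group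
    have hxU : n * x * n⁻¹ ∈ U := ⟨x, hx, rfl⟩
    obtain ⟨z₂, hz₂, c₂, hc₂, hc₂J, e11⟩ := h.fr.split_ZJ j (hnJ' z₁ hz₁)
    have hu : (n * x * n⁻¹) * z₂ ∈ U := mul_mem hxU (hZU hz₂)
    set u : G := (n * x * n⁻¹) * z₂ with hud
    have e12 : w = u * c₂ := by rw [e10, e11, hud]; group
    have e13 : a' * w * a'⁻¹ * w⁻¹ = a' * u * a'⁻¹ * u⁻¹ := by
      have h2 := mem_centralizer_iff.1 haC' c₂ hc₂
      rw [e12]
      calc a' * (u * c₂) * a'⁻¹ * (u * c₂)⁻¹ = a' * u * (c₂ * a'⁻¹) * c₂⁻¹ * u⁻¹ := by group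
        _ = a' * u * (a'⁻¹ * (a' * c₂) * a'⁻¹) * c₂⁻¹ * u⁻¹ := by group
        _ = a' * u * (a'⁻¹ * (c₂ * a') * a'⁻¹) * c₂⁻¹ * u⁻¹ := by rw [h2]
        _ = a' * u * a'⁻¹ * u⁻¹ := by group
    rw [e13]
    exact mul_mem ((mem_normalizer_iff.1 haU u).1 hu) (inv_mem hu)
  have haWj : ∀ w ∈ W j, a' * w * a'⁻¹ ∈ W j := fun w hw =>
    (mem_normalizer_iff.1 (mem_normalizer_iff_cj.2 (h.fix haP' haC' j)) w).1 hw
  have hle : W j ≤ U := by
    let f : W j → W j := fun w => ⟨a' * w * a'⁻¹ * (w : G)⁻¹, mul_mem (haWj w w.2) (inv_mem w.2)⟩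
    have hf : Function.Injective f := by
      rintro ⟨w, hw⟩ ⟨w', hw'⟩ hww
      have e9 : a' * w * a'⁻¹ * w⁻¹ = a' * w' * a'⁻¹ * w'⁻¹ := congrArg Subtype.val hww
      have hx : w'⁻¹ * w = 1 := by
        refine ha3' _ (mul_mem (inv_mem hw') hw) ?_
        have e10 : a' * w * a'⁻¹ = a' * w' * a'⁻¹ * w'⁻¹ * w := by rw [← e9]; group
        calc a' * (w'⁻¹ * w) * a'⁻¹ = (a' * w' * a'⁻¹)⁻¹ * (a' * w * a'⁻¹) := by group
          _ = w'⁻¹ * w := by rw [e10]; group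
      exact Subtype.ext (inv_mul_eq_one.1 hx).symm
    intro w hw
    obtain ⟨x, hx⟩ := (Finite.injective_iff_surjective.1 hf) ⟨w, hw⟩
    have e9 : a' * (x : G) * a'⁻¹ * (x : G)⁻¹ = w := congrArg Subtype.val hx
    rw [← e9]
    exact key _ x.2
  symm
  refine Subgroup.eq_of_le_of_card_ge hle ?_
  rw [hU, card_cj, (h.fr.blk i).card, (h.fr.blk j).card, h.fr.cardZ, h.fr.cardZ]

/-- `q = 2` -/
theorem cj_W_of_two [Finite ι] (hq : q = 2) {n : G}
    (hn : n ∈ normalizer (B : Set G)) {i j : ι} (e : cj n (Z i) = Z j) : cj n (W i) = W j := by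
  subst hq
  have h1 : UniPlus.NB B (L j) (W j) (Z j) 2 := ⟨h.fr.blk j, h.fr.cardZ j⟩
  have h2 : UniPlus.NB B (cj n (L i)) (cj n (W i)) (Z j) 2 := by
    have h3 := (h.fr.blk i).conj n
    rw [cj_eq_of_mem_normalizer hn, e] at h3
    exact ⟨h3, h.fr.cardZ j⟩
  refine (UniPlus.uni_two h.wc h.bau_two h1 h2 ?_).1
  rw [h.fr.zcB]
  exact (h.norm_inv hn e).1

/-- **`g ∈ N_G(B)`, `g Z_i = Z_j` implies `g W_i = W_j`.** -/
theorem cj_W [Finite ι] {n : G} (hn : n ∈ normalizer (B : Set G)) {i j : ι} (e : cj n (Z i) = Z j) : cj n (W i) = W j := by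
  rcases Nat.lt_or_ge 2 q with hq | hq
  · exact h.cj_W_of_three hq (h.scal hq) hn e
  · exact h.cj_W_of_two (le_antisymm hq (h.fr.blk i).one) hn e

/-- **`N_G(B)` permutes the `W i` and the `Z i`.** -/
theorem perm_W [Finite ι] {n : G} (hn : n ∈ normalizer (B : Set G)) :
    ∃ σ : Equiv.Perm ι, ∀ i, cj n (W i) = W (σ i) ∧ cj n (Z i) = Z (σ i) := by
  choose f hf using fun i => (h.norm hn).2 i
  have hinj : Function.Injective f := by
    intro i j hij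
    have h1 := (hf i).1
    rw [hij, ← (hf j).1] at h1
    have h2 := congrArg (cj n⁻¹) h1
    rw [cj_inv_cj, cj_inv_cj] at h2
    exact h.Z_inj h2
  exact ⟨Equiv.ofBijective f (Finite.injective_iff_bijective.1 hinj),
    fun i => ⟨h.cj_W hn (hf i).1, (hf i).1⟩⟩

/-- A 2-group over `B` which normalises `Z i` normalises `W i`. -/
theorem norm_W_of_two [Finite ι] (i : ι) {R : Subgroup G}
    (hR : IsPGroup 2 R) (hB : B ≤ R) (hRn : R ≤ normalizer (Z i : Set G)) :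
    R ≤ normalizer (W i : Set G) := fun r hr =>
  mem_normalizer_iff_cj.2 (h.cj_W (h.le_norm_B hR hB hr) (mem_normalizer_iff_cj.1 (hRn hr)))

end perm

end Bw

namespace Bw

section A

variable [Finite G] {S : Sylow 2 G} {P : Subgroup G} {ι : Type} {B ZJ : Subgroup G}
  {L W Z C : ι → Subgroup G} {q : ℕ} (h : Bw S P B ZJ L W Z C q) {i j : ι} {s : G} (p : Pa (S : Subgroup G) W i j s)
include h p

theorem s_sq : s * s ∈ normalizer (Z i : Set G) := by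
  rw [mem_normalizer_iff_cj, ← cj_cj, h.cj_s_Z p, h.cj_s_Z' p]

/-- `k Z i ≤ W i` implies `k Z i = l Z i` with `l ∈ P ∩ C(C i)` (from TI). -/
theorem pts (hTI : TI (Z i)) {k : G} (hk : cj k (Z i) ≤ W i) :
    ∃ l ∈ P, l ∈ centralizer (C i : Set G) ∧ cj l (Z i) = cj k (Z i) := by
  obtain ⟨z, hz, hz1⟩ : ∃ x ∈ Z i, x ≠ 1 := by
    by_contra hcon
    push Not at hcon
    exact h.Z_ne i ((eq_bot_iff_forall _).2 hcon)
  have hx : k * z * k⁻¹ ∈ cj k (Z i) := ⟨z, hz, rfl⟩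
  have hx1 : k * z * k⁻¹ ≠ 1 := fun e => hz1 (conj_eq_one_iff.1 e)
  obtain ⟨l, hl, hlc, y, hy, e⟩ := h.tr i _ (hk hx) hx1
  have h1 : cj (l⁻¹ * k) (Z i) = Z i := by
    apply hTI
    intro hbot
    have h2 : y ∈ cj (l⁻¹ * k) (Z i) ⊓ Z i := by
      refine mem_inf.2 ⟨?_, hy⟩
      rw [mem_cj]
      have e1 : (l⁻¹ * k)⁻¹ * y * (l⁻¹ * k) = k⁻¹ * (l * y * l⁻¹) * k := by group
      have e2 : k⁻¹ * (k * z * k⁻¹) * k = z := by group
      rw [e1, e, e2]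
      exact hz
    rw [hbot, mem_bot] at h2
    rw [h2, mul_one, mul_inv_cancel] at e
    exact hx1 e.symm
  refine ⟨l, hl, hlc, ?_⟩
  have h2 := congrArg (cj l) h1
  rw [cj_cj, mul_inv_cancel_left] at h2
  exact h2.symm

/-- **The hypotheses of STEP F.** -/
theorem stepF [Finite ι] (hTI : TI (Z i)) {F : Subgroup G}
    (hF : F ≤ normalizer (Z i : Set G) ⊓ normalizer (Z j : Set G))
    (hFn : normalizer (Z i : Set G) ≤ normalizer (F : Set G))
    (cov : ∀ x ∈ normalizer (Z i : Set G), ∃ c ∈ normalizer (Z i : Set G),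
      ∃ k ∈ closure (((normalizer (Z i : Set G) ⊓ normalizer (StepF.cn s (Z i) : Set G) : Subgroup G) : Set G) ∪
        (StepF.cn s (P ⊓ centralizer (C i : Set G)) : Set G)),
      ∃ σ ∈ (S : Subgroup G), x = c * k ∧ StepF.cn (c * s) (Z i) = StepF.cn σ (Z i) ∧ StepF.cn c (W i) = W i) :
    StepF.Hyp (S : Subgroup G) s (Z i) (W i) (P ⊓ centralizer (C i : Set G)) F where
  sS := p.mem
  ss := h.s_sq p
  ne := fun e => p.ne (h.Z_inj ((h.cj_s_Z p).symm.trans e)).symm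
  ZV := (h.fr.blk i).ZV
  LV := fun l hl => h.fix hl.1 hl.2 i
  pts := fun g hg => by
    obtain ⟨l, hl, hlc, e⟩ := h.pts p hTI hg
    exact ⟨l, ⟨hl, hlc⟩, e.symm⟩
  blk := by
    rintro σ hσ hne l ⟨hl, hlc⟩ v hv
    obtain ⟨τ, hτ⟩ := h.perm_S hσ
    have h1 : τ i ≠ i := fun e => hne (by
      have := (hτ i).2.1
      rw [e] at this
      exact this)
    have h2 : σ * l * σ⁻¹ ∈ centralizer (C (τ i) : Set G) := by
      rw [← (hτ i).2.2, ← cj_centralizer]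
      exact ⟨l, hlc, rfl⟩
    exact (mem_centralizer_iff.1 h2 v (h.fr.WjC _ _ h1 hv)).symm
  FD := by
    have e : StepF.cn s (Z i) = Z j := h.cj_s_Z p
    rw [e]
    exact hF
  Fn := fun x hx f hf => (mem_normalizer_iff.1 (hFn hx) f).1 hf
  cov := cov
  ab := by
    intro σ hσ x hx a ha b hb
    have e : StepF.cn s (Z i) = Z j := h.cj_s_Z p
    rw [e] at hx
    have h1 := h.comm j (one_mem _) hx
    rw [cj_one] at h1
    have hσV : σ * a * σ⁻¹ ∈ zl (S : Subgroup G) P := by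
      have h2 : σ ∈ normalizer (zl (S : Subgroup G) P : Set G) :=
        MinSimple.VModule.le_normalizer_zl _ _ (h.hyp.SP hσ)
      exact (mem_normalizer_iff.1 h2 a).1 (h.fr.ZV i ha)
    have hxV : x * b * x⁻¹ ∈ cj x (zl (S : Subgroup G) P) := ⟨b, h.fr.ZV i hb, rfl⟩
    exact (mem_centralizer_iff.1 (h1 hσV) _ hxV).symm

/-- `N₁ = ⟨Z j ^ N(Z i)⟩`. -/
theorem NN_eq : PG.NN ![Z i, Z j] (Z i) = ⨆ k : normalizer (Z i : Set G), cj (k : G) (Z j) := by
  apply le_antisymm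
  · refine sSup_le ?_
    rintro u ⟨k, hk, rfl⟩
    have hk' : k ∈ normalizer (Z i : Set G) := mem_normalizer_iff_cj.2 hk.symm
    exact le_iSup (fun k : normalizer (Z i : Set G) => cj (k : G) (Z j)) ⟨k, hk'⟩
  · refine iSup_le fun k => le_sSup ⟨k, ?_, rfl⟩
    exact (mem_normalizer_iff_cj.1 k.2).symm

/-- **`O₂(H₁ / F₁) = 1`.** -/
theorem core [Finite ι] {R : Subgroup G} (hR : R ≤ (S : Subgroup G) ⊓ normalizer (Z i : Set G))
    (hn : normalizer (Z i : Set G) ≤ normalizer ((PG.FF ![Z i, Z j] (Z i) ⊔ R : Subgroup G) : Set G)) :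
    R ≤ PG.FF ![Z i, Z j] (Z i) := by
  have : Fact (Nat.Prime 2) := ⟨Nat.prime_two⟩
  set H : Subgroup G := normalizer (Z i : Set G) with hH
  set N : Subgroup G := PG.NN ![Z i, Z j] (Z i) with hN
  set F : Subgroup G := PG.FF ![Z i, Z j] (Z i) with hF
  set T : Subgroup G := (S : Subgroup G) ⊓ H with hT
  set M : Subgroup G := F ⊔ R with hM
  have hFH : F ≤ H := inf_le_left
  have hMH : M ≤ H := sup_le hFH (hR.trans inf_le_right)
  have hFn : H ≤ normalizer (F : Set G) := PG.PP.HH_le_FF (Z i)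
  have hNn : H ≤ normalizer (N : Set G) := PG.PP.HH_le_NN (Z i)
  set R₀ : Subgroup G := T ⊓ M with hR₀
  have hSylT : Syl T H := h.syl i
  -- `R₀` is Sylow in `M`
  have hSyl : Syl R₀ M := by
    refine ⟨inf_le_right, hSylT.2.1.to_le inf_le_left, fun Q hQ h2 hle => ?_⟩
    obtain ⟨Q', hQ', hQQ'⟩ := exists_syl h2 (hQ.trans hMH)
    obtain ⟨x, hx, e⟩ := syl_conj hSylT hQ'
    have h1 : Q ≤ cj x R₀ := by
      rw [hR₀, cj_inf, e, cj_eq_of_mem_normalizer (hn hx)]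
      exact le_inf hQQ' hQ
    symm
    exact Subgroup.eq_of_le_of_card_ge hle ((Subgroup.card_le_of_le h1).trans (card_cj _ _).le)
  -- Frattini
  have hfr : ∀ x ∈ H, ∃ f ∈ F, ∃ n ∈ H, n ∈ normalizer (R₀ : Set G) ∧ x = f * n := by
    intro x hx
    have h1 : Syl (cj x R₀) M := by
      refine ⟨?_, isPGroup_cj x hSyl.2.1, fun Q hQ h2 hle => ?_⟩
      · have := cj_mono x hSyl.1
        rwa [cj_eq_of_mem_normalizer (hn hx)] at this
      · have h3 := cj_mono x⁻¹ hQ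
        rw [cj_eq_of_mem_normalizer (hn (inv_mem hx))] at h3
        have h4 := hSyl.2.2 (cj x⁻¹ Q) h3 (isPGroup_cj _ h2) (cj_le_iff.1 hle)
        rw [← h4, cj_cj_inv]
    obtain ⟨y, hy, e⟩ := syl_conj hSyl h1
    -- `y = f r`
    have hRF : R ≤ normalizer (F : Set G) := (hR.trans inf_le_right).trans hFn
    have hy' : y ∈ ((F ⊔ R : Subgroup G) : Set G) := hy
    rw [Subgroup.coe_mul_of_right_le_normalizer_left _ _ hRF, Set.mem_mul] at hy'
    obtain ⟨f, hf, r, hr, rfl⟩ := hy'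
    have hr0 : r ∈ R₀ := ⟨hR hr, mem_sup_right hr⟩
    refine ⟨f, hf, f⁻¹ * x, mul_mem (inv_mem (hFH hf)) hx, ?_, by group⟩
    rw [mem_normalizer_iff_cj, ← cj_cj, ← e, cj_cj, inv_mul_cancel_left,
      cj_eq_of_mem_normalizer (Subgroup.le_normalizer hr0)]
  -- `E = C_N(R₀)` is normalised by `H`
  set E : Subgroup G := N ⊓ centralizer (R₀ : Set G) with hE
  have hEn : H ≤ normalizer (E : Set G) := by
    intro x hx
    obtain ⟨f, hf, n, hnH, hnR, rfl⟩ := hfr x hx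
    refine mul_mem ?_ ?_
    · refine centralizer_le_normalizer _ (centralizer_le ?_ hf.2)
      exact_mod_cast (inf_le_left : E ≤ N)
    · rw [mem_normalizer_iff_cj, hE, cj_inf, cj_centralizer, cj_eq_of_mem_normalizer (hNn hnH),
        cj_eq_of_mem_normalizer hnR]
  have hZN : Z j ≤ N := by
    rw [hN, h.NN_eq p]
    have := le_iSup (fun k : normalizer (Z i : Set G) => cj (k : G) (Z j)) 1
    rwa [OneMemClass.coe_one, cj_one] at this
  -- `Z j ∩ E ≠ 1`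
  have h1 : Z j ⊓ E ≠ ⊥ := by
    have h2 := PLocal.OffenderStep.inf_centralizer_ne_bot (Z j) T (h.Z_two j) hSylT.2.1
      ((h.T_le p).trans inf_le_right) (h.Z_ne j)
    intro hbot
    apply h2
    rw [eq_bot_iff, ← hbot]
    refine le_inf inf_le_left (le_inf (inf_le_left.trans hZN) (inf_le_right.trans (centralizer_le ?_)))
    exact_mod_cast (inf_le_left : R₀ ≤ T)
  have h2 : Z j ≤ E := by
    refine le_trans ((h.toIn j).irr _ inf_le_left ?_ h1) inf_le_right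
    intro x hx
    have hxH : x ∈ H := h.L_norm p.ne.symm hx.1
    rw [mem_normalizer_iff_cj, cj_inf, cj_eq_of_mem_normalizer ((h.toIn j).NN hx),
      cj_eq_of_mem_normalizer (hEn hxH)]
  have h3 : N ≤ E := by
    rw [hN, h.NN_eq p]
    refine iSup_le fun k => ?_
    have := cj_mono (k : G) h2
    rwa [cj_eq_of_mem_normalizer (hEn k.2)] at this
  intro r hr
  refine ⟨(hR hr).2, ?_⟩
  have h4 : R₀ ≤ centralizer (N : Set G) := by
    rw [le_centralizer_iff]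
    exact h3.trans inf_le_right
  exact h4 ⟨hR hr, mem_sup_right hr⟩

end A

end Bw

end Cfsg.Agent.Omega.NO3S.EThree.Frame
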