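import Cfsg.Agent.Omega.NO3S.EThree.NvQ
import Cfsg.Agent.Omega.NO3S.EThreeW.NoQOf
import Cfsg.Agent.Omega.NO3S.EThree.NoQOf

/-!
# NO-3S, case (E), `k = 2`, all `q`, every level: the line `U i` (frame fields of THEOREM N, #23934 (c))

`E = N_G(U i)`, `b = Z i`, `S = B ∩ C(U i)`.

* `FQ.exists_cj` : a vector of `U i - Z i` is `(b l) z (b l)⁻¹` with `b ∈ B`; `FQ.cov`, `FQ.ptsW`;
* `FQ.lin` : an element of `N(U i)` trivial on `Z i` and `U i / Z i` acts on `U i` like an element of `B` (TI);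
* `FQ.exists_lin` : `K` normalised by `B`, `K ≤ C(Z i)`, `K ∩ N(U i)` moves `U i` ⇒ an element of `K` acts on `U i` like
  an element of `B` which moves `U i`;
* `BwQ.root_of` : then `K` induces the full root group.
-/

set_option autoImplicit false
set_option linter.unusedSectionVars false

namespace Cfsg.Agent.Omega.NO3S.EThree

open Subgroup Cfsg Cfsg.Agent.ZN.ChoiceBase
open Cfsg.Agent.ZN (zc zl o2)
open Cfsg.Agent.ZN.ChoiceSit (Syl syl_not_dvd)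
open Cfsg.Agent.Omega.OM Cfsg.Agent.Omega.OM.Uni
open Cfsg.Agent.Omega.OM.PG
open Cfsg.Agent.Omega.MinPar (NonLoc)
open Cfsg.Agent.Omega.NO3S (HypJ HypN Hyp)
open Cfsg.Agent.Omega.NO3S.EThree.Frame
open Cfsg.Agent.Omega.NO3S.EThree.ExactA (NoP eab_iff)
open scoped Pointwise

universe u

variable {G : Type u} [Group G]


namespace BwQ

/-- the torus relation: `h` normalises `W`, `Z`, `[b, w^h] = [b, w]^(h⁻¹)` -/
structure Rel (B W Z : Subgroup G) (h : G) : Prop where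
  nW : h ∈ normalizer (W : Set G)
  nZ : h ∈ normalizer (Z : Set G)
  rel : ∀ b ∈ B, ∀ w ∈ W, b * (h * w * h⁻¹) * b⁻¹ * (h * w * h⁻¹)⁻¹ = h⁻¹ * (b * w * b⁻¹ * w⁻¹) * h

theorem Rel.pow {B W Z : Subgroup G} {h : G} (hh : Rel B W Z h) (m : ℕ) : Rel B W Z (h ^ m) := by
  induction m with
  | zero => exact ⟨by simp, by simp, fun b _ w _ => by simp⟩
  | succ m ih =>
    refine ⟨pow_mem hh.nW _, pow_mem hh.nZ _, fun b hb w hw => ?_⟩
    have h1 : h ^ m * w * (h ^ m)⁻¹ ∈ W := (mem_normalizer_iff.1 ih.nW w).1 hw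
    have h2 := hh.rel b hb _ h1
    have h3 := ih.rel b hb w hw
    have e1 : h ^ (m + 1) * w * (h ^ (m + 1))⁻¹ = h * (h ^ m * w * (h ^ m)⁻¹) * h⁻¹ := by
      rw [pow_succ']; group
    have e2 : (h ^ (m + 1))⁻¹ * (b * w * b⁻¹ * w⁻¹) * h ^ (m + 1) =
        h⁻¹ * ((h ^ m)⁻¹ * (b * w * b⁻¹ * w⁻¹) * h ^ m) * h := by
      rw [pow_succ]; group
    rw [e1, e2, h2, h3]

variable [Finite G] {S : Sylow 2 G} {P B ZJ : Subgroup G} {L W Z C : Fin 2 → Subgroup G} {q : ℕ}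
  (h : Bw S P B ZJ L W Z C q)
include h

theorem comm_congr {i : Fin 2} {b x y : G} (hb : b ∈ B) (hx : x ∈ Z i) (hy : y ∈ W i) :
    b * (x * y) * b⁻¹ * (x * y)⁻¹ = b * y * b⁻¹ * y⁻¹ := by
  have h1 := (h.fr.blk i).cZ b hb x hx
  have h2 := (h.fr.blk i).com b hb y hy
  have h3 : x * (b * y * b⁻¹ * y⁻¹) = (b * y * b⁻¹ * y⁻¹) * x :=
    h.fr.Vc (h.fr.ZV i hx) (h.fr.ZV i h2)
  calc b * (x * y) * b⁻¹ * (x * y)⁻¹ = (b * x) * (y * b⁻¹ * y⁻¹) * x⁻¹ := by group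
    _ = x * (b * y * b⁻¹ * y⁻¹) * x⁻¹ := by rw [h1]; group
    _ = b * y * b⁻¹ * y⁻¹ := by rw [h3, mul_inv_cancel_right]

/-- a torus element which fixes one vector of `Z i` centralises `Z i` -/
theorem fix_one {i : Fin 2} {g z₀ : G} (hg : Rel B (W i) (Z i) g) (hz₀ : z₀ ∈ Z i) (hz1 : z₀ ≠ 1)
    (hfix : g⁻¹ * z₀ * g = z₀) {z : G} (hz : z ∈ Z i) : g⁻¹ * z * g = z := by
  obtain ⟨v, hv, hvZ⟩ : ∃ v ∈ W i, v ∉ Z i := by
    obtain ⟨b, hb, w, hw, hne⟩ := (h.fr.blk i).ne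
    exact ⟨w, hw, fun hc => hne ((h.fr.blk i).cZ b hb w hc)⟩
  obtain ⟨b₀, hb₀, -, e₀⟩ := h.root i v hv hvZ z₀ hz₀
  obtain ⟨b, hb, -, e⟩ := h.root i v hv hvZ z hz
  have hgv : g * v * g⁻¹ ∈ W i := (mem_normalizer_iff.1 hg.nW v).1 hv
  have h1 := hg.rel b₀ hb₀ v hv
  rw [e₀, hfix, ← e₀] at h1
  -- `x = v^g v⁻¹ ∈ Z i`
  set x := g * v * g⁻¹ * v⁻¹ with hx
  have hxW : x ∈ W i := mul_mem hgv (inv_mem hv)
  have hxv : g * v * g⁻¹ = x * v := by rw [hx]; group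
  have hxZ : x ∈ Z i := by
    by_contra hxZ
    have h2 : b₀ * x = x * b₀ := by
      rw [hxv] at h1
      have c1 : x * v = v * x := h.fr.Vc (h.fr.WV i hxW) (h.fr.WV i hv)
      have h3 : b₀ * (x * v) * b₀⁻¹ * (x * v)⁻¹ = (b₀ * x * b₀⁻¹ * x⁻¹) * (b₀ * v * b₀⁻¹ * v⁻¹) := by
        have h4 := (h.fr.blk i).com b₀ hb₀ v hv
        have h5 : x⁻¹ * (b₀ * v * b₀⁻¹ * v⁻¹) = (b₀ * v * b₀⁻¹ * v⁻¹) * x⁻¹ :=
          h.fr.Vc (h.fr.WV i (inv_mem hxW)) (h.fr.ZV i h4)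
        calc b₀ * (x * v) * b₀⁻¹ * (x * v)⁻¹ = b₀ * x * b₀⁻¹ * ((b₀ * v * b₀⁻¹ * v⁻¹) * x⁻¹) := by group
          _ = b₀ * x * b₀⁻¹ * (x⁻¹ * (b₀ * v * b₀⁻¹ * v⁻¹)) := by rw [h5]
          _ = _ := by group
      rw [h3] at h1
      have h6 : b₀ * x * b₀⁻¹ * x⁻¹ = 1 := by
        have := mul_right_cancel (h1.trans (one_mul _).symm)
        exact this
      exact mul_inv_eq_iff_eq_mul.1 (mul_inv_eq_one.1 h6)
    have h3 := (h.fr.blk i).free b₀ hb₀ x hxW hxZ h2 v hv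
    apply hz1
    rw [← e₀, h3]; group
  have h2 := hg.rel b hb v hv
  rw [hxv, comm_congr h hb hxZ hv, e] at h2
  exact h2.symm

/-- the torus relation with a prescribed action on `Z i` -/
theorem torR {i j : Fin 2} (hij : i ≠ j) {z z' : G} (hz : z ∈ Z i) (hz1 : z ≠ 1) (hz' : z' ∈ Z i) (hz1' : z' ≠ 1) :
    ∃ t : G, Rel B (W i) (Z i) t ∧ t ∈ centralizer (W j : Set G) ∧ t⁻¹ * z * t = z' := by
  rcases Nat.lt_or_ge 2 q with hq | hq
  · obtain ⟨v, hv, hvZ⟩ : ∃ v ∈ W i, v ∉ Z i := by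
      obtain ⟨b, hb, w, hw, hne⟩ := (h.fr.blk i).ne
      exact ⟨w, hw, fun hc => hne ((h.fr.blk i).cZ b hb w hc)⟩
    obtain ⟨b, hb, -, e⟩ := h.root i v hv hvZ z hz
    -- `[b, v'] = z'`
    have hsurj : ∃ v' ∈ W i, v' ∉ Z i ∧ b * v' * b⁻¹ * v'⁻¹ = z' := by
      have hbW : ∀ w ∈ W i, b * w * b⁻¹ * w⁻¹ ∈ Z i := fun w hw => (h.fr.blk i).com b hb w hw
      have hcomm : ∀ x ∈ W i, ∀ y ∈ W i, x * y = y * x := fun x hx y hy => h.fr.Vc (h.fr.WV i hx) (h.fr.WV i hy)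
      let f : W i →* Z i :=
        { toFun := fun w => ⟨b * w * b⁻¹ * (w : G)⁻¹, hbW w w.2⟩
          map_one' := Subtype.ext (by simp)
          map_mul' := fun x y => Subtype.ext (by
            change b * ((x : G) * y) * b⁻¹ * ((x : G) * y)⁻¹ = b * x * b⁻¹ * (x : G)⁻¹ * (b * y * b⁻¹ * (y : G)⁻¹)
            have h1 := hcomm (x : G)⁻¹ (inv_mem x.2) (b * y * b⁻¹ * (y : G)⁻¹) ((h.fr.blk i).ZV (hbW y y.2))
            calc b * ((x : G) * y) * b⁻¹ * ((x : G) * y)⁻¹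
                = b * x * b⁻¹ * ((b * y * b⁻¹ * (y : G)⁻¹) * (x : G)⁻¹) := by group
              _ = b * x * b⁻¹ * ((x : G)⁻¹ * (b * y * b⁻¹ * (y : G)⁻¹)) := by rw [h1]
              _ = _ := by group) }
      have hker : f.ker = (Z i).subgroupOf (W i) := by
        ext x
        rw [MonoidHom.mem_ker, mem_subgroupOf]
        constructor
        · intro hx
          by_contra hxZ
          have h1 : b * (x : G) * b⁻¹ * (x : G)⁻¹ = 1 := congrArg Subtype.val hx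
          have h2 : b * (x : G) = x * b := by
            have := mul_inv_eq_one.1 h1
            exact mul_inv_eq_iff_eq_mul.1 this
          have h3 := (h.fr.blk i).free b hb x x.2 hxZ h2 v hv
          apply hz1
          rw [← e, h3]; group
        · intro hx
          refine Subtype.ext ?_
          change b * (x : G) * b⁻¹ * (x : G)⁻¹ = 1
          rw [(h.fr.blk i).cZ b hb x hx]; group
      have hcard : Nat.card f.range = Nat.card (Z i) := by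
        have h1 := Subgroup.card_mul_index f.ker
        rw [Subgroup.index_ker] at h1
        rw [hker, Nat.card_congr (Subgroup.subgroupOfEquivOfLe (h.fr.blk i).ZV).toEquiv, (h.fr.blk i).card,
          h.fr.cardZ i] at h1
        rw [h.fr.cardZ i]
        exact Nat.eq_of_mul_eq_mul_left (by have := (h.fr.blk i).one; omega) h1
      have htop : f.range = ⊤ := Subgroup.eq_top_of_card_eq _ hcard
      have hz'' : (⟨z', hz'⟩ : Z i) ∈ f.range := by rw [htop]; exact mem_top _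
      obtain ⟨x, hx⟩ := hz''
      have hx' : b * (x : G) * b⁻¹ * (x : G)⁻¹ = z' := congrArg Subtype.val hx
      refine ⟨x, x.2, fun hc => hz1' ?_, hx'⟩
      rw [← hx', (h.fr.blk i).cZ b hb x hc]; group
    obtain ⟨v', hv', hvZ', e'⟩ := hsurj
    obtain ⟨t, htP, htC, htZ, ht, htv, -⟩ := (h.scal hq i).ex v hv hvZ v' hv' hvZ'
    have h1 := ht b hb v hv
    have h2 : t * v * t⁻¹ = (v'⁻¹ * (t * v * t⁻¹)) * v' := by
      have h3 : t * v * t⁻¹ ∈ W i := by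
        have h4 := h.fix htP htC i
        rw [← h4]
        exact ⟨v, hv, rfl⟩
      have h5 : v'⁻¹ * (t * v * t⁻¹) = (t * v * t⁻¹) * v'⁻¹ :=
        h.fr.Vc (h.fr.WV i (inv_mem hv')) (h.fr.WV i h3)
      rw [h5]; group
    rw [h2, comm_congr h hb htv hv', e', e] at h1
    refine ⟨t, ⟨mem_normalizer_iff_cj.2 (h.fix htP htC i), htZ, ht⟩, ?_, h1.symm⟩
    rw [← C_eq_W h hij]
    exact htC
  · have hq2 : q = 2 := le_antisymm hq (h.fr.blk i).one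
    have h2 : Nat.card (Z i) = 2 := by rw [h.fr.cardZ i, hq2]
    obtain ⟨c, hc, hcu⟩ := (Nat.card_eq_two_iff' (1 : Z i)).1 h2
    have hall : ∀ x ∈ Z i, x ≠ 1 → x = (c : G) := fun x hx e =>
      congrArg Subtype.val (hcu ⟨x, hx⟩ fun e' => e (congrArg Subtype.val e'))
    exact ⟨1, ⟨one_mem _, one_mem _, fun b _ w _ => by simp⟩, one_mem _, by
      rw [hall z hz hz1, hall z' hz' hz1']; group⟩

/-- the square root of a torus element on `Z i` -/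
theorem torS {i : Fin 2} {t : G} (ht : Rel B (W i) (Z i) t) :
    ∃ k : ℕ, ∀ z ∈ Z i, (t ^ k)⁻¹ * ((t ^ k)⁻¹ * z * t ^ k) * t ^ k = t⁻¹ * z * t := by
  have : Fact (Nat.Prime 2) := ⟨Nat.prime_two⟩
  obtain ⟨a, m, hm, ho⟩ := Nat.exists_eq_two_pow_mul_odd (orderOf_pos t).ne'
  -- `g = t ^ m` is a 2-element
  have hg := ht.pow m
  have hg2 : IsPGroup 2 (zpowers (t ^ m)) := by
    have h1 : (t ^ m) ^ 2 ^ a = 1 := by
      rw [← pow_mul, mul_comm, ← ho, pow_orderOf_eq_one]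
    intro x
    obtain ⟨x, hx⟩ := x
    obtain ⟨n, rfl⟩ := mem_zpowers_iff.1 hx
    refine ⟨a, Subtype.ext ?_⟩
    change ((t ^ m) ^ n) ^ 2 ^ a = 1
    rw [← zpow_natCast, ← zpow_mul, mul_comm, zpow_mul, zpow_natCast, h1, one_zpow]
  have hgn : zpowers (t ^ m) ≤ normalizer (Z i : Set G) := by
    rw [zpowers_le]; exact hg.nZ
  have hbot : ∀ X : Subgroup G, X ≤ normalizer ((⊥ : Subgroup G) : Set G) := fun X => by
    rw [normalizer_eq_top]; exact le_top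
  obtain ⟨z₀, hz₀, hz1, hfix⟩ := IId.SideOf.exists_fixed_mod (A := ⊥) (B := Z i) (T := zpowers (t ^ m))
      (fun hc => h.Z_ne i (le_bot_iff.1 hc)) (hbot _) (h.Z_two i) hg2 (hbot _) hgn
  rw [mem_bot] at hz1
  have hfix' : (t ^ m)⁻¹ * z₀ * t ^ m = z₀ := by
    have h1 := hfix (t ^ m)⁻¹ (inv_mem (mem_zpowers _))
    rw [mem_bot, inv_inv, mul_inv_eq_one] at h1
    exact h1
  obtain ⟨k, hk⟩ := hm
  refine ⟨k + 1, fun z hz => ?_⟩
  have hz' : t⁻¹ * z * t ∈ Z i := (mem_normalizer_iff''.1 ht.nZ z).1 hz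
  have h3 := fix_one h hg hz₀ hz1 hfix' hz'
  rw [← h3]
  have e1 : t ^ m = t ^ k * t ^ k * t := by
    rw [hk, two_mul, pow_succ, pow_add]
  rw [e1, pow_succ]
  have c2 : t ^ k * t * (t ^ k * t) = t * (t ^ k * t ^ k * t) := by
    rw [← pow_succ, ← pow_add, ← pow_add, ← pow_succ, ← pow_succ']
    congr 1
    omega
  calc (t ^ k * t)⁻¹ * ((t ^ k * t)⁻¹ * z * (t ^ k * t)) * (t ^ k * t)
      = (t ^ k * t * (t ^ k * t))⁻¹ * z * (t ^ k * t * (t ^ k * t)) := by group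
    _ = (t * (t ^ k * t ^ k * t))⁻¹ * z * (t * (t ^ k * t ^ k * t)) := by rw [c2]
    _ = _ := by group

/-- **`K` induces the full root group.** -/
theorem root_of (hTI : TI (Z 0)) (hnl : NonLoc (normalizer (Z 0 : Set G)) (normalizer (Z 1 : Set G)))
    {i j : Fin 2} (hij : i ≠ j) {K : Subgroup G} (hKn : HH (Z i) ≤ normalizer (K : Set G))
    (hKZ : K ≤ centralizer (Z i : Set G))
    (hs : ∃ s ∈ K, s ∈ normalizer (W i : Set G) ∧ s ∉ centralizer (W i : Set G)) :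
    ∀ v ∈ W i, v ∉ Z i → ∀ z ∈ Z i, ∃ s ∈ K, s ∈ normalizer (W i : Set G) ∧ s * v * s⁻¹ * v⁻¹ = z := by
  have D := FQ.of_bw h hTI hnl
  intro v hv hvZ z hz
  by_cases hz1 : z = 1
  · exact ⟨1, one_mem _, one_mem _, by rw [hz1]; group⟩
  obtain ⟨s, hsK, hsW, hsc⟩ := hs
  obtain ⟨s₁, hs₁, hs₁W, b, hb, hbc, e⟩ := D.exists_lin hij ((D.B_le_HH i).trans hKn) hKZ hsK hsW hsc
  have hzv : b * v * b⁻¹ * v⁻¹ ∈ Z i := D.com i b hb v hv
  have hzv1 : b * v * b⁻¹ * v⁻¹ ≠ 1 := fun h1 =>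
    hbc (D.free i b hb v hv hvZ (mul_inv_eq_iff_eq_mul.1 (mul_inv_eq_one.1 h1)))
  obtain ⟨t, ht, -, et⟩ := torR h hij hzv hzv1 hz hz1
  obtain ⟨k, hk⟩ := torS h ht
  have hk' := ht.pow k
  set g := t ^ k with hg
  refine ⟨g⁻¹ * s₁ * g, (mem_normalizer_iff''.1 (hKn hk'.nZ) s₁).1 hs₁,
    mul_mem (mul_mem (inv_mem hk'.nW) hs₁W) hk'.nW, ?_⟩
  have hgv : g * v * g⁻¹ ∈ W i := (mem_normalizer_iff.1 hk'.nW v).1 hv
  have e1 : g⁻¹ * s₁ * g * v * (g⁻¹ * s₁ * g)⁻¹ * v⁻¹ =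
      g⁻¹ * ((s₁ * (g * v * g⁻¹) * s₁⁻¹) * (g * v * g⁻¹)⁻¹) * g := by group
  rw [e1, e _ hgv, hk'.rel b hb v hv, hk _ hzv, et]

end BwQ

end Cfsg.Agent.Omega.NO3S.EThree
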