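import Cfsg.Agent.Omega.NO3S.EThree.RegX
import Cfsg.Agent.Omega.NO3S.EThreeW.FrameGB
import Cfsg.Agent.Omega.NO3S.EThreeW.FrQOf
import Cfsg.Agent.Omega.OM.PG.PcQ
import Cfsg.Agent.Omega.NO3S.EThree.FrQB
import Cfsg.Agent.Omega.NO3S.EThree.FrameGB

/-!
# (E), `q ≥ 4`: `RegX` (`X_a` acts on `Q_a` as an `F_q`-space of maps to `a`)

* `Op Z U` : for `c, z ∈ (Z 0)#` there is an additive operator `τ` on `Z 0` with `τ c = z` which is induced on every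
  line on `Z 0`: `[b, x'] = τ [b, x]` for all `b ∈ Q_0`;
* `regX_of` : `Op` gives `PcQ.RegX Z (XW Z U)`; `FQ.regX`;
* `Bw.exists_cent` : all lines on `Z i` are conjugate under `C_G(Z i)` (weak closure of `B`, `Bw.cj_W`);
* `Bw.op`, `Bw.regX` : over the frame `Bw`, `2 < q`.
-/

set_option autoImplicit false
set_option linter.unusedSectionVars false

namespace Cfsg.Agent.Omega.NO3S.EThree

open Subgroup Cfsg
open Cfsg.Agent.ZN Cfsg.Agent.Omega.OM.PG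
open Cfsg.Agent.Omega.OM.PG.Peel (XF XW XW_conj ln_le_XW)
open Cfsg.Agent.Omega.NO3S.EThree.ExactA (eab_iff)
open Cfsg.Agent.Omega.NoFF.Basic (comm_symm conj_conj conj_le_iff mem_conj)
open scoped Pointwise

universe u

variable {G : Type u} [Group G]

namespace Frame

open Cfsg.Agent.ZN.ChoiceBase
open Cfsg.Agent.ZN.ChoiceSit (Syl exists_syl syl_conj)
open Cfsg.Agent.Omega.OM Cfsg.Agent.Omega.OM.Uni
open Cfsg.Agent.Omega.MinPar (NonLoc)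

namespace Bw

variable [Finite G] {S : Sylow 2 G} {P : Subgroup G} {ι : Type} {B ZJ : Subgroup G}
  {L W Z C : ι → Subgroup G} {q : ℕ} (h : Bw S P B ZJ L W Z C q) {i j : ι}
include h

/-- **All lines on `Z i` are conjugate under `C_G(Z i)`.** -/
theorem exists_cent [Finite ι] {k : G} (hk : k ∈ normalizer (Z i : Set G)) :
    ∃ c ∈ centralizer (Z i : Set G), cj k (W i) = cj c (W i) := by
  have hBC : B ≤ centralizer (Z i : Set G) := fun b hb =>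
    mem_centralizer_iff.2 fun z hz => ((h.fr.blk i).cZ b hb z hz).symm
  obtain ⟨T, hT, hBT⟩ := exists_syl h.bau_two hBC
  have hkC : cj k (centralizer (Z i : Set G)) = centralizer (Z i : Set G) := by
    rw [cj_centralizer, mem_normalizer_iff_cj.1 hk]
  have hkT : Syl (cj k T) (centralizer (Z i : Set G)) := by
    refine ⟨by rw [← hkC]; exact cj_mono k hT.1, hT.2.1.map _, fun R hR hR2 hle => ?_⟩
    have h1 : cj k⁻¹ R = T := by
      refine hT.2.2 _ ?_ (hR2.map _) ?_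
      · have h2 := cj_mono k⁻¹ hR
        rwa [← hkC, cj_inv_cj] at h2
      · have h2 := cj_mono k⁻¹ hle
        rwa [cj_inv_cj] at h2
    rw [← h1, cj_cj, mul_inv_cancel, cj_one]
  obtain ⟨c, hc, e⟩ := syl_conj hT hkT
  refine ⟨c, hc, ?_⟩
  -- `n = c⁻¹ k` normalises `T`, so `B`
  have hn : cj (c⁻¹ * k) T = T := by
    rw [← cj_cj, ← e, cj_inv_cj]
  have hnB : cj (c⁻¹ * k) B = B := h.wc T hT.2.1 hBT _ (by
    have h1 := cj_mono (c⁻¹ * k) hBT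
    rwa [hn] at h1)
  have hnZ : cj (c⁻¹ * k) (Z i) = Z i :=
    mem_normalizer_iff_cj.1 (mul_mem (inv_mem (centralizer_le_normalizer _ hc)) hk)
  have hnW := h.cj_W (mem_normalizer_iff_cj.2 hnB) hnZ
  have h2 := congrArg (cj c) hnW
  rwa [cj_cj, mul_inv_cancel_left] at h2

/-- **The operators of the field on all lines on `Z i`.** -/
theorem op [Finite ι] (hq : 2 < q) : Op ![Z i, Z j] ![W i, W j] := by
  intro c hc hc1 z hz hz1
  change c ∈ Z i at hc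
  change z ∈ Z i at hz
  obtain ⟨v, hv, hvZ⟩ : ∃ v ∈ W i, v ∉ Z i := by
    obtain ⟨b, hb, v, hv, hbv⟩ := (h.fr.blk i).ne
    exact ⟨v, hv, fun hvZ => hbv ((h.fr.blk i).cZ b hb v hvZ)⟩
  obtain ⟨b₁, hb₁, e1⟩ := (h.scal hq i).surj v hv hvZ c hc
  have hmv : ∃ v ∈ W i, b₁ * v ≠ v * b₁ := ⟨v, hv, fun e => hc1 (by rw [← e1, e]; group)⟩
  obtain ⟨v', hv', e2⟩ := Md.surj (h.fr.blk i).toMd (h.fr.cardZ i) hb₁ hmv hz
  have hv'Z : v' ∉ Z i := fun hvZ' => hz1 (by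
    rw [← e2, (h.fr.blk i).cZ b₁ hb₁ v' hvZ']; group)
  obtain ⟨m, hmP, hmC, hmZ, hop, hm, -⟩ := (h.scal hq i).ex v hv hvZ v' hv' hv'Z
  have hmW : cj m (W i) = W i := h.fix hmP hmC i
  refine ⟨fun x => m⁻¹ * x * m, by group, ?_, fun x _ y _ => by group, ?_⟩
  · -- `m⁻¹ c m = z`
    have e3 := hop b₁ hb₁ v hv
    rw [e1] at e3
    change m⁻¹ * c * m = z
    rw [← e3, ← e2]
    have e4 : b₁ * (v'⁻¹ * (m * v * m⁻¹)) = v'⁻¹ * (m * v * m⁻¹) * b₁ := (h.fr.blk i).cZ b₁ hb₁ _ hm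
    calc b₁ * (m * v * m⁻¹) * b₁⁻¹ * (m * v * m⁻¹)⁻¹ =
        b₁ * v' * b₁⁻¹ * (b₁ * (v'⁻¹ * (m * v * m⁻¹))) * b₁⁻¹ * (m * v * m⁻¹)⁻¹ := by group
      _ = b₁ * v' * b₁⁻¹ * (v'⁻¹ * (m * v * m⁻¹) * b₁) * b₁⁻¹ * (m * v * m⁻¹)⁻¹ := by rw [e4]
      _ = b₁ * v' * b₁⁻¹ * v'⁻¹ := by group
  · rintro l ⟨k, hk, rfl⟩ x hx
    change Z i = cj k (Z i) at hk
    change x ∈ cj k (W i) at hx
    change ∃ x' ∈ cj k (W i), ∀ b ∈ o2 (normalizer (Z i : Set G)), b * x' * b⁻¹ * x'⁻¹ = m⁻¹ * (b * x * b⁻¹ * x⁻¹) * m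
    obtain ⟨d, hd, e⟩ := h.exists_cent (mem_normalizer_iff_cj.2 hk.symm)
    rw [e] at hx ⊢
    obtain ⟨y, hy, rfl⟩ := hx
    have hy' : m * y * m⁻¹ ∈ W i := by
      rw [← hmW]; exact ⟨y, hy, rfl⟩
    refine ⟨d * (m * y * m⁻¹) * d⁻¹, ⟨_, hy', rfl⟩, fun b hb => ?_⟩
    change b * (d * (m * y * m⁻¹) * d⁻¹) * b⁻¹ * (d * (m * y * m⁻¹) * d⁻¹)⁻¹ =
      m⁻¹ * (b * (d * y * d⁻¹) * b⁻¹ * (d * y * d⁻¹)⁻¹) * m
    have hdn : d ∈ normalizer (Z i : Set G) := centralizer_le_normalizer _ hd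
    have hb' : d⁻¹ * b * d ∈ B := by
      refine h.o2_le i ?_
      have h1 := (mem_normalizer_iff.1 (MinSimple.VModule.le_normalizer_o2 (normalizer (Z i : Set G))
        (inv_mem hdn)) b).1 hb
      rwa [inv_inv] at h1
    set b' := d⁻¹ * b * d with hb'd
    set ε := b' * y * b'⁻¹ * y⁻¹ with hε
    have hεZ : ε ∈ Z i := (h.fr.blk i).com b' hb' y hy
    have hmε : m⁻¹ * ε * m ∈ Z i := by
      have h1 := (mem_normalizer_iff.1 (inv_mem hmZ) ε).1 hεZ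
      rwa [inv_inv] at h1
    have hcd : ∀ x ∈ Z i, d * x * d⁻¹ = x := fun x hx => by
      rw [← mem_centralizer_iff.1 hd x hx]; group
    have e5 : b = d * b' * d⁻¹ := by rw [hb'd]; group
    have e6 : b * (d * (m * y * m⁻¹) * d⁻¹) * b⁻¹ * (d * (m * y * m⁻¹) * d⁻¹)⁻¹ =
        d * (b' * (m * y * m⁻¹) * b'⁻¹ * (m * y * m⁻¹)⁻¹) * d⁻¹ := by rw [e5]; group
    have e7 : b * (d * y * d⁻¹) * b⁻¹ * (d * y * d⁻¹)⁻¹ = d * ε * d⁻¹ := by rw [hε, e5]; group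
    rw [e6, e7, hop b' hb' y hy, hcd _ hεZ]
    exact hcd _ hmε

/-- **`RegX` over the frame `Bw`.** -/
theorem regX [Finite ι] (hq : 2 < q) (D : FQ ![Z i, Z j] ![W i, W j] B q) :
    PcQ.RegX ![Z i, Z j] (XW ![Z i, Z j] ![W i, W j]) :=
  D.regX (h.op hq)

end Bw

end Frame

end Cfsg.Agent.Omega.NO3S.EThree
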