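import Cfsg.Agent.Omega.NO3S.EThree.SylU
import Cfsg.Agent.Omega.NO3S.EThreeW.FrameG
import Cfsg.Agent.Omega.NO3S.EThree.FrameG

/-!
# `SylU` : a Sylow 2-subgroup of `N_G(Z i)` over `B` normalises the line (input of THEOREM N #23328 / #23934 (a))
-/

set_option autoImplicit false
set_option linter.unusedSectionVars false

namespace Cfsg.Agent.Omega.NO3S.EThree

open Subgroup Cfsg Cfsg.Agent.ZN.ChoiceBase
open Cfsg.Agent.ZN.ChoiceSit (Syl)
open Cfsg.Agent.Omega.NO3S.EThree.Frame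

universe u

variable {G : Type u} [Group G]

/-- the same for every `X` with `N_S(Z i) ≤ X ≤ N_G(Z i)`, and for `C_G(Z i)` -/
theorem Bw.sylU_of_le [Finite G] {S : Sylow 2 G} {P : Subgroup G} {ι : Type} [Finite ι] {B ZJ : Subgroup G}
    {L W Z C : ι → Subgroup G} {q : ℕ} (h : Bw S P B ZJ L W Z C q) (i : ι) {X : Subgroup G}
    (h1 : (S : Subgroup G) ⊓ normalizer (Z i : Set G) ≤ X) (h2 : X ≤ normalizer (Z i : Set G)) :
    ∃ T : Subgroup G, Syl T X ∧ B ≤ T ∧ T ≤ normalizer (W i : Set G) ∧ T ≤ (S : Subgroup G) :=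
  ⟨_, h.syl_of_le i h1 h2, h.bau_le_T i, (h.inf_normalizer i).le.trans inf_le_right, inf_le_left⟩

/-- **`SylU` from `Bw`.** -/
theorem SylU.of_bw [Finite G] {S : Sylow 2 G} {P : Subgroup G} {ι : Type} [Finite ι] {B ZJ : Subgroup G}
    {L W Z C : ι → Subgroup G} {q : ℕ} (h : Bw S P B ZJ L W Z C q) : SylU Z W B := fun i =>
  ⟨_, h.syl i, h.bau_le_T i, (h.inf_normalizer i).le.trans inf_le_right⟩

end Cfsg.Agent.Omega.NO3S.EThree
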